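import Cfsg.Agent.H294.G2.Chain
import Cfsg.Agent.H779.G2.Stmts

/-!
# S5211 [TI] (helper294)

`Aut_S(Q)` is TI modulo `Inn(Q)` for `Q = Qa, Qb`; both are centric, proper and characteristic in `GU K` (swapped or not for
`p = 3`).
-/

set_option autoImplicit false

namespace Cfsg.Agent.H294.G2

open Cfsg Cfsg.FusionSystem Cfsg.Agent.H756.PU Cfsg.Agent.H779.G2

universe u

section

variable {K : Type u} [Field K]

/-! ### coordinates of commutators -/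

theorem comm_a (g x : GU K) : (g * x * g⁻¹ * x⁻¹).a = 0 := by
  simp only [GU.mul_a, GU.inv_a]; ring

theorem comm_b (g x : GU K) : (g * x * g⁻¹ * x⁻¹).b = 0 := by
  simp only [GU.mul_b, GU.inv_b]; ring

theorem comm_c (g x : GU K) : (g * x * g⁻¹ * x⁻¹).c = g.b * x.a - x.b * g.a := by
  simp only [GU.mul_a, GU.mul_b, GU.mul_c, GU.inv_a, GU.inv_b, GU.inv_c]; ring

theorem comm_d (g x : GU K) : (g * x * g⁻¹ * x⁻¹).d =
    2 * g.c * x.a + g.b * x.a ^ 2 - 2 * x.c * g.a - x.b * g.a ^ 2 - 2 * (g.b * x.a - x.b * g.a) * (x.a + g.a) := by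
  simp only [GU.mul_a, GU.mul_b, GU.mul_c, GU.mul_d, GU.inv_a, GU.inv_b, GU.inv_c, GU.inv_d]; ring

theorem comm_e (g x : GU K) : (g * x * g⁻¹ * x⁻¹).e =
    (3 * g.d * x.a + 3 * g.c * x.a ^ 2 + g.b * x.a ^ 3) - (3 * x.d * g.a + 3 * x.c * g.a ^ 2 + x.b * g.a ^ 3)
      - 3 * (2 * g.c * x.a + g.b * x.a ^ 2 - 2 * x.c * g.a - x.b * g.a ^ 2
        - 2 * (g.b * x.a - x.b * g.a) * (x.a + g.a)) * (x.a + g.a)
      - 3 * (g.b * x.a - x.b * g.a) * (x.a + g.a) ^ 2 := by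
  simp only [GU.mul_a, GU.mul_b, GU.mul_c, GU.mul_d, GU.mul_e, GU.inv_a, GU.inv_b, GU.inv_c, GU.inv_d, GU.inv_e]; ring

/-- `x ∈ Z4`: the last coordinate -/
theorem comm_f {g x : GU K} (ha : x.a = 0) (hb : x.b = 0) : (g * x * g⁻¹ * x⁻¹).f =
    3 * g.d * x.c + 3 * g.a * x.c ^ 2 - 3 * g.c * x.d + g.b * x.e := by
  simp only [GU.mul_b, GU.mul_c, GU.mul_d, GU.mul_e, GU.mul_f, GU.inv_a, GU.inv_b, GU.inv_c, GU.inv_d,
    GU.inv_e, GU.inv_f, ha, hb]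
  ring

/-! ### further subgroups -/

variable (K) in
/-- `⟨X_{2α+β}, X_{3α+2β}⟩`, the centre of `S` for `p = 3` -/
def Zc : Subgroup (GU K) where
  carrier := {g | g.a = 0 ∧ g.b = 0 ∧ g.c = 0 ∧ g.e = 0}
  one_mem' := by simp
  mul_mem' := by
    rintro x y ⟨h1, h2, h3, h4⟩ ⟨k1, k2, k3, k4⟩
    simp [h1, h2, h3, h4, k1, k2, k3, k4]
  inv_mem' := by
    rintro x ⟨h1, h2, h3, h4⟩
    simp [h1, h2, h3, h4]

variable (K) in
/-- `⟨X_{α+β}, X_{2α+β}, X_{3α+2β}⟩`, the centre of `Qa` for `p = 3` -/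
def Ya : Subgroup (GU K) where
  carrier := {g | g.a = 0 ∧ g.b = 0 ∧ g.e = 0}
  one_mem' := by simp
  mul_mem' := by
    rintro x y ⟨h1, h2, h4⟩ ⟨k1, k2, k4⟩
    simp [h1, h2, h4, k1, k2, k4]
  inv_mem' := by
    rintro x ⟨h1, h2, h4⟩
    simp [h1, h2, h4]

theorem Z1_le_Z2 : Z1 K ≤ Z2 K := fun _ h => ⟨h.1, h.2.1, h.2.2.1, h.2.2.2.1⟩
theorem Z2_le_Z3 : Z2 K ≤ Z3 K := fun _ h => ⟨h.1, h.2.1, h.2.2.1⟩
theorem Z3_le_Z4 : Z3 K ≤ Z4 K := fun _ h => ⟨h.1, h.2.1⟩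
theorem Z4_le_Qa : Z4 K ≤ Qa K := fun _ h => h.1
theorem Z4_le_Qb : Z4 K ≤ Qb K := fun _ h => h.2
theorem Zc_le_Z3 : Zc K ≤ Z3 K := fun _ h => ⟨h.1, h.2.1, h.2.2.1⟩
theorem Zc_le_Ya : Zc K ≤ Ya K := fun _ h => ⟨h.1, h.2.1, h.2.2.2⟩
theorem Ya_le_Z4 : Ya K ≤ Z4 K := fun _ h => ⟨h.1, h.2.1⟩

/-- `[S, Qa] ≤ Z4` and `[S, Qb] ≤ Z4` -/
theorem com_top (g x : GU K) : g * x * g⁻¹ * x⁻¹ ∈ Z4 K := ⟨comm_a g x, comm_b g x⟩

theorem com_Z4 (g : GU K) {x : GU K} (hx : x ∈ Z4 K) : g * x * g⁻¹ * x⁻¹ ∈ Z3 K := by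
  refine ⟨comm_a g x, comm_b g x, ?_⟩
  rw [comm_c, hx.1, hx.2]; ring

theorem com_Z3 (g : GU K) {x : GU K} (hx : x ∈ Z3 K) : g * x * g⁻¹ * x⁻¹ ∈ Z2 K := by
  obtain ⟨h1, h2, h3⟩ := hx
  refine ⟨comm_a g x, comm_b g x, ?_, ?_⟩
  · rw [comm_c, h1, h2]; ring
  · rw [comm_d, h1, h2, h3]; ring

theorem com_Z2 (g : GU K) {x : GU K} (hx : x ∈ Z2 K) : g * x * g⁻¹ * x⁻¹ ∈ Z1 K := by
  obtain ⟨h1, h2, h3, h4⟩ := hx
  refine ⟨comm_a g x, comm_b g x, ?_, ?_, ?_⟩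
  · rw [comm_c, h1, h2]; ring
  · rw [comm_d, h1, h2, h3]; ring
  · rw [comm_e, h1, h2, h3, h4]; ring

/-- an element all of whose coordinates vanish -/
theorem eq_one_of {w : GU K} (ha : w.a = 0) (hb : w.b = 0) (hc : w.c = 0) (hd : w.d = 0) (he : w.e = 0) (hf : w.f = 0) :
    w = 1 := by
  ext
  · exact ha
  · exact hb
  · exact hc
  · exact hd
  · exact he
  · exact hf

theorem com_Z1 (g : GU K) {x : GU K} (hx : x ∈ Z1 K) : g * x * g⁻¹ * x⁻¹ = 1 := by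
  obtain ⟨h1, h2, h3, h4, h5⟩ := hx
  refine eq_one_of (comm_a g x) (comm_b g x) ?_ ?_ ?_ ?_
  · rw [comm_c, h1, h2]; ring
  · rw [comm_d, h1, h2, h3]; ring
  · rw [comm_e, h1, h2, h3, h4]; ring
  · rw [comm_f h1 h2, h3, h4, h5]; ring

/-! ### the field -/

variable {p n : ℕ}

theorem two_eq (h : HypG K p n) (hp : p = 2) : (2 : K) = 0 := by
  have := h.char
  subst hp
  exact_mod_cast CharP.cast_eq_zero K 2

theorem two_ne (h : HypG K p n) (hp : p ≠ 2) : (2 : K) ≠ 0 := by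
  have := h.char
  intro h2
  have h3 : ((2 : ℕ) : K) = 0 := by exact_mod_cast h2
  rw [CharP.cast_eq_zero_iff K p 2] at h3
  exact hp ((Nat.prime_dvd_prime_iff_eq h.pp Nat.prime_two).1 h3)

theorem three_eq (h : HypG K p n) (hp : p = 3) : (3 : K) = 0 := by
  have := h.char
  subst hp
  exact_mod_cast CharP.cast_eq_zero K 3

theorem three_ne (h : HypG K p n) (hp : p ≠ 3) : (3 : K) ≠ 0 := by
  have := h.char
  intro h2
  have h3 : ((3 : ℕ) : K) = 0 := by exact_mod_cast h2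
  rw [CharP.cast_eq_zero_iff K p 3] at h3
  exact hp ((Nat.prime_dvd_prime_iff_eq h.pp Nat.prime_three).1 h3)

/-- there is an element different from `0` and `1` -/
theorem exists_ne (h : HypG K p n) (hq : 2 < p ^ n) : ∃ s : K, s ≠ 0 ∧ s ≠ 1 := by
  have := h.fin
  by_contra hcon
  push Not at hcon
  have h1 : Nat.card K ≤ 2 := by
    have h2 : (Set.univ : Set K) ⊆ {0, 1} := by
      intro x _
      by_cases hx : x = 0
      · exact Or.inl hx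
      · exact Or.inr (hcon x hx)
    rw [← Set.ncard_univ]
    exact (Set.ncard_le_ncard h2 (by simp)).trans (Set.ncard_insert_le _ _ |>.trans (by simp))
  rw [h.card] at h1
  omega

theorem exp_GU (h : HypG K p n) (x : GU K) : x ^ p ^ 3 = 1 := by
  have := h.char
  have hp : (p : K) = 0 := CharP.cast_eq_zero K p
  have ka : ∀ (x : GU K) (j : ℕ), (x ^ j).a = j * x.a := fun x j => by
    induction j with
    | zero => simp
    | succ j ih => rw [pow_succ, GU.mul_a, ih]; push_cast; ring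
  have kb : ∀ (x : GU K) (j : ℕ), (x ^ j).b = j * x.b := fun x j => by
    induction j with
    | zero => simp
    | succ j ih => rw [pow_succ, GU.mul_b, ih]; push_cast; ring
  have kc : ∀ (x : GU K), x.a = 0 → x.b = 0 → ∀ j : ℕ, (x ^ j).c = j * x.c ∧ (x ^ j).d = j * x.d ∧
      (x ^ j).e = j * x.e := fun x h1 h2 j => by
    induction j with
    | zero => simp
    | succ j ih =>
      obtain ⟨i1, i2, i3⟩ := ih
      have k1 : (x ^ j).a = 0 := by rw [ka, h1, mul_zero]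
      have k2 : (x ^ j).b = 0 := by rw [kb, h2, mul_zero]
      refine ⟨?_, ?_, ?_⟩
      · rw [pow_succ, GU.mul_c, i1, h1]; push_cast; ring
      · rw [pow_succ, GU.mul_d, i2, h1]; push_cast; ring
      · rw [pow_succ, GU.mul_e, i3, h1]; push_cast; ring
  have kf : ∀ (x : GU K), x ∈ Z1 K → ∀ j : ℕ, (x ^ j).f = j * x.f := fun x hx j => by
    obtain ⟨h1, h2, h3, h4, h5⟩ := hx
    induction j with
    | zero => simp
    | succ j ih =>
      obtain ⟨i1, i2, i3⟩ := kc x h1 h2 j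
      have k1 : (x ^ j).a = 0 := by rw [ka, h1, mul_zero]
      have k2 : (x ^ j).b = 0 := by rw [kb, h2, mul_zero]
      rw [pow_succ, GU.mul_f, ih, h1, h2, h3, i1, i2, i3, h3, h4, h5]; push_cast; ring
  have e1 : x ^ p ∈ Z4 K := ⟨by rw [ka, hp, zero_mul], by rw [kb, hp, zero_mul]⟩
  have e2 : (x ^ p) ^ p ∈ Z1 K := by
    obtain ⟨i1, i2, i3⟩ := kc _ e1.1 e1.2 p
    exact ⟨by rw [ka, hp, zero_mul], by rw [kb, hp, zero_mul], by rw [i1, hp, zero_mul], by rw [i2, hp, zero_mul],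
      by rw [i3, hp, zero_mul]⟩
  have e3 : ((x ^ p) ^ p) ^ p = 1 := by
    obtain ⟨i1, i2, i3⟩ := kc _ e2.1 e2.2.1 p
    refine eq_one_of (by rw [ka, hp, zero_mul]) (by rw [kb, hp, zero_mul]) (by rw [i1, hp, zero_mul])
      (by rw [i2, hp, zero_mul]) (by rw [i3, hp, zero_mul]) (by rw [kf _ e2, hp, zero_mul])
  rw [← e3, ← pow_mul, ← pow_mul]
  congr 1
  ring

/-! ### characterizations in `Qa` and `Qb` -/

/-- commuting and commutators -/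
theorem comm_iff_one {G : Type*} [Group G] {g x : G} : g * x * g⁻¹ * x⁻¹ = 1 ↔ g * x = x * g := by
  rw [mul_inv_eq_one, mul_inv_eq_iff_eq_mul]

theorem Qa_comm {x y : GU K} (hx : x.a = 0) (hy : y.a = 0) :
    x * y = y * x ↔ 3 * x.d * y.c - x.e * y.b = 3 * y.d * x.c - y.e * x.b := by
  constructor
  · intro h
    have := congrArg GU.f h
    simp only [GU.mul_f, hx, hy] at this
    linear_combination this
  · intro h
    ext
    · simp [hx, hy]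
    · simp [add_comm]
    · simp only [GU.mul_c, hx, hy]; ring
    · simp only [GU.mul_d, hx, hy]; ring
    · simp only [GU.mul_e, hx, hy]; ring
    · simp only [GU.mul_f, hx, hy]; linear_combination h

/-- `Z(Qa) = Z1` for `p ≠ 3` -/
theorem mem_Z1_iff (h3 : (3 : K) ≠ 0) {x : GU K} (hx : x ∈ Qa K) : x ∈ Z1 K ↔ ∀ y ∈ Qa K, x * y = y * x := by
  have hxa : x.a = 0 := hx
  constructor
  · rintro ⟨h1, h2, h3, h4, h5⟩ y hy
    rw [Qa_comm hxa hy, h2, h3, h4, h5]; ring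
  · intro h
    have e1 := (Qa_comm hxa rfl).1 (h ⟨0, 1, 0, 0, 0, 0⟩ rfl)
    have e2 := (Qa_comm hxa rfl).1 (h ⟨0, 0, 1, 0, 0, 0⟩ rfl)
    have e3 := (Qa_comm hxa rfl).1 (h ⟨0, 0, 0, 1, 0, 0⟩ rfl)
    have e4 := (Qa_comm hxa rfl).1 (h ⟨0, 0, 0, 0, 1, 0⟩ rfl)
    simp only at e1 e2 e3 e4
    refine ⟨hxa, by linear_combination e4, ?_, ?_, by linear_combination -e1⟩
    · have : 3 * x.c = 0 := by linear_combination -e3
      exact (mul_eq_zero.1 this).resolve_left h3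
    · have : 3 * x.d = 0 := by linear_combination e2
      exact (mul_eq_zero.1 this).resolve_left h3

/-- `Z(Qa) = Ya` for `p = 3` -/
theorem mem_Ya_iff (h3 : (3 : K) = 0) {x : GU K} (hx : x ∈ Qa K) : x ∈ Ya K ↔ ∀ y ∈ Qa K, x * y = y * x := by
  have hxa : x.a = 0 := hx
  constructor
  · rintro ⟨h1, h2, h4⟩ y hy
    rw [Qa_comm hxa hy, h2, h4, h3]; ring
  · intro h
    have e1 := (Qa_comm hxa rfl).1 (h ⟨0, 1, 0, 0, 0, 0⟩ rfl)
    have e4 := (Qa_comm hxa rfl).1 (h ⟨0, 0, 0, 0, 1, 0⟩ rfl)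
    simp only at e1 e4
    exact ⟨hxa, by linear_combination e4, by linear_combination -e1⟩

/-- `Z(Qb) = Z2` for `p ≠ 3` -/
theorem mem_Z2_iff (h3 : (3 : K) ≠ 0) {x : GU K} (hx : x ∈ Qb K) : x ∈ Z2 K ↔ ∀ y ∈ Qb K, x * y = y * x := by
  have hxb : x.b = 0 := hx
  constructor
  · rintro ⟨h1, h2, h3, h4⟩ y hy
    have hyb : y.b = 0 := hy
    ext
    · simp [h1]
    · simp [h2, hyb]
    · simp only [GU.mul_c, h1, h2, h3, hyb]; ring
    · simp only [GU.mul_d, h1, h2, h3, h4, hyb]; ring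
    · simp only [GU.mul_e, h1, h2, h3, h4, hyb]; ring
    · simp only [GU.mul_f, h1, h2, h3, h4, hyb]; ring
  · intro h
    have q1 := h ⟨0, 0, 0, 1, 0, 0⟩ rfl
    have q2 := h ⟨1, 0, 0, 0, 0, 0⟩ rfl
    have e1 := congrArg GU.e q1
    have f1 := congrArg GU.f q1
    have e2 := congrArg GU.e q2
    simp only [GU.mul_e, GU.mul_f, hxb] at e1 f1 e2
    have ha : x.a = 0 := by
      have : 3 * x.a = 0 := by linear_combination -e1
      exact (mul_eq_zero.1 this).resolve_left h3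
    rw [ha] at f1 e2
    have hc : x.c = 0 := by
      have : 3 * x.c = 0 := by linear_combination -f1
      exact (mul_eq_zero.1 this).resolve_left h3
    rw [hc] at e2
    have hd : x.d = 0 := by
      have : 3 * x.d = 0 := by linear_combination e2
      exact (mul_eq_zero.1 this).resolve_left h3
    exact ⟨ha, hxb, hc, hd⟩

/-- `Z(Qb) = Z3` for `p = 3` -/
theorem mem_Z3_iff (h3 : (3 : K) = 0) (h2 : (2 : K) ≠ 0) {x : GU K} (hx : x ∈ Qb K) :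
    x ∈ Z3 K ↔ ∀ y ∈ Qb K, x * y = y * x := by
  have hxb : x.b = 0 := hx
  constructor
  · rintro ⟨h1, h2, h4⟩ y hy
    have hyb : y.b = 0 := hy
    ext
    · simp [h1]
    · simp [h2, hyb]
    · simp only [GU.mul_c, h1, h2, h4, hyb]; ring
    · simp only [GU.mul_d, h1, h2, h4, hyb]; ring
    · simp only [GU.mul_e, h1, h2, h4, hyb]; linear_combination (x.d * y.a) * h3
    · simp only [GU.mul_f, h1, h2, h4, hyb]; linear_combination (x.d * y.c) * h3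
  · intro h
    have q1 := congrArg GU.d (h ⟨0, 0, 1, 0, 0, 0⟩ rfl)
    have q2 := congrArg GU.d (h ⟨1, 0, 0, 0, 0, 0⟩ rfl)
    simp only [GU.mul_d, hxb] at q1 q2
    refine ⟨?_, hxb, ?_⟩
    · have : 2 * x.a = 0 := by linear_combination -q1
      exact (mul_eq_zero.1 this).resolve_left h2
    · have : 2 * x.c = 0 := by linear_combination q2
      exact (mul_eq_zero.1 this).resolve_left h2

/-- the second centre of `Qb` is `Z3` for `p ≥ 5` -/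
theorem mem_Z3_iff' (h3 : (3 : K) ≠ 0) (h2 : (2 : K) ≠ 0) {x : GU K} (hx : x ∈ Qb K) :
    x ∈ Z3 K ↔ ∀ y ∈ Qb K, y * x * y⁻¹ * x⁻¹ ∈ Z2 K := by
  have hxb : x.b = 0 := hx
  constructor
  · intro hz y _
    exact com_Z3 y hz
  · intro h
    have q1 := (h ⟨0, 0, 1, 0, 0, 0⟩ rfl).2.2.2
    have q2 := (h ⟨1, 0, 0, 0, 0, 0⟩ rfl).2.2.2
    rw [comm_d] at q1 q2
    simp only [hxb] at q1 q2
    have ha : x.a = 0 := by
      have : 2 * x.a = 0 := by linear_combination q1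
      exact (mul_eq_zero.1 this).resolve_left h2
    refine ⟨ha, hxb, ?_⟩
    · have : 2 * x.c = 0 := by linear_combination -q2
      exact (mul_eq_zero.1 this).resolve_left h2

/-- `{x ∈ Qb : [g, x] ∈ Z3} = Z4` for `g ∉ Qb` -/
theorem Z4_of_b {g : GU K} (hg : g.b ≠ 0) {x : GU K} (hx : x ∈ Qb K) : x ∈ Z4 K ↔ g * x * g⁻¹ * x⁻¹ ∈ Z3 K := by
  have hxb : x.b = 0 := hx
  constructor
  · exact fun h => com_Z4 g h
  · intro h
    have h1 := h.2.2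
    rw [comm_c, hxb] at h1
    have h2 : g.b * x.a = 0 := by linear_combination h1
    exact ⟨(mul_eq_zero.1 h2).resolve_left hg, hxb⟩

/-- `{x ∈ Qb : [g, x] ∈ Z2} = Z4` for `g ∉ Qb`, `p = 2` -/
theorem Z4_of_b' (h2 : (2 : K) = 0) {g : GU K} (hg : g.b ≠ 0) {x : GU K} (hx : x ∈ Qb K) :
    x ∈ Z4 K ↔ g * x * g⁻¹ * x⁻¹ ∈ Z2 K := by
  have hxb : x.b = 0 := hx
  constructor
  · intro h
    obtain ⟨k1, k2, k3⟩ := com_Z4 g h
    refine ⟨k1, k2, k3, ?_⟩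
    rw [comm_d, h.1, h.2]
    linear_combination (-x.c * g.a) * h2
  · intro h
    exact (Z4_of_b hg hx).2 ⟨h.1, h.2.1, h.2.2.1⟩

/-- `{x ∈ Z2 : [g, x] = 1} = Z1` for `g ∉ Qb` -/
theorem Z1_of_b {g : GU K} (hg : g.b ≠ 0) {x : GU K} : x ∈ Z1 K ↔ x ∈ Z2 K ∧ g * x * g⁻¹ * x⁻¹ ∈ (⊥ : Subgroup (GU K)) := by
  constructor
  · intro h
    refine ⟨Z1_le_Z2 h, ?_⟩
    rw [Subgroup.mem_bot]; exact com_Z1 g h
  · rintro ⟨⟨k1, k2, k3, k4⟩, h⟩
    rw [Subgroup.mem_bot] at h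
    have h1 := congrArg GU.f h
    rw [comm_f k1 k2, k3, k4] at h1
    have h2 : g.b * x.e = 0 := by
      have : (1 : GU K).f = 0 := rfl
      rw [this] at h1
      linear_combination h1
    exact ⟨k1, k2, k3, k4, (mul_eq_zero.1 h2).resolve_left hg⟩

/-- `{x ∈ Z3 : [g, x] = 1} = Zc` for `g ∉ Qb`, `p = 3` -/
theorem Zc_of_b (h3 : (3 : K) = 0) {g : GU K} (hg : g.b ≠ 0) {x : GU K} :
    x ∈ Zc K ↔ x ∈ Z3 K ∧ g * x * g⁻¹ * x⁻¹ ∈ (⊥ : Subgroup (GU K)) := by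
  constructor
  · intro h
    refine ⟨Zc_le_Z3 h, ?_⟩
    obtain ⟨k1, k2, k3, k4⟩ := h
    rw [Subgroup.mem_bot]
    refine eq_one_of (comm_a g x) (comm_b g x) ?_ ?_ ?_ ?_
    · rw [comm_c, k1, k2]; ring
    · rw [comm_d, k1, k2, k3]; ring
    · rw [comm_e, k1, k2, k3]; linear_combination (-x.d * g.a) * h3
    · rw [comm_f k1 k2, k3, k4]; linear_combination (-g.c * x.d) * h3
  · rintro ⟨⟨k1, k2, k3⟩, h⟩
    rw [Subgroup.mem_bot] at h
    have h1 := congrArg GU.f h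
    rw [comm_f k1 k2, k3] at h1
    have h2 : g.b * x.e = 0 := by
      have : (1 : GU K).f = 0 := rfl
      rw [this] at h1
      linear_combination h1 + (g.c * x.d) * h3
    exact ⟨k1, k2, k3, (mul_eq_zero.1 h2).resolve_left hg⟩

/-! `Qa` -/

/-- `{x ∈ Qa : [g, x] ∈ Z3} = Z4` for `g ∉ Qa` -/
theorem Z4_of_a {g : GU K} (hg : g.a ≠ 0) {x : GU K} (hx : x ∈ Qa K) : x ∈ Z4 K ↔ g * x * g⁻¹ * x⁻¹ ∈ Z3 K := by
  have hxa : x.a = 0 := hx
  constructor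
  · exact fun h => com_Z4 g h
  · intro h
    have h1 := h.2.2
    rw [comm_c, hxa] at h1
    have h2 : x.b * g.a = 0 := by linear_combination -h1
    exact ⟨hxa, (mul_eq_zero.1 h2).resolve_right hg⟩

/-- `{x ∈ Qa : [g, x] ∈ Z2} = Z3` for `g ∉ Qa`, `p ≠ 2` -/
theorem Z3_of_a (h2 : (2 : K) ≠ 0) {g : GU K} (hg : g.a ≠ 0) {x : GU K} (hx : x ∈ Qa K) :
    x ∈ Z3 K ↔ g * x * g⁻¹ * x⁻¹ ∈ Z2 K := by
  constructor
  · exact fun h => com_Z3 g h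
  · intro h
    obtain ⟨k1, k2⟩ := (Z4_of_a hg hx).2 (Z2_le_Z3 h)
    have h1 := h.2.2.2
    rw [comm_d, k1, k2] at h1
    have h4 : 2 * (x.c * g.a) = 0 := by linear_combination -h1
    have h5 := (mul_eq_zero.1 h4).resolve_left h2
    exact ⟨k1, k2, (mul_eq_zero.1 h5).resolve_right hg⟩

/-- `{x ∈ Qa : [g, x] ∈ Z1} = Z2` for `g ∉ Qa`, `p ≥ 5` -/
theorem Z2_of_a (h3 : (3 : K) ≠ 0) (h2 : (2 : K) ≠ 0) {g : GU K} (hg : g.a ≠ 0) {x : GU K} (hx : x ∈ Qa K) :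
    x ∈ Z2 K ↔ g * x * g⁻¹ * x⁻¹ ∈ Z1 K := by
  constructor
  · exact fun h => com_Z2 g h
  · intro h
    obtain ⟨k1, k2, k3⟩ := (Z3_of_a h2 hg hx).2 (Z1_le_Z2 h)
    have h1 := h.2.2.2.2
    rw [comm_e, k1, k2, k3] at h1
    have h4 : 3 * (x.d * g.a) = 0 := by linear_combination -h1
    have h5 := (mul_eq_zero.1 h4).resolve_left h3
    exact ⟨k1, k2, k3, (mul_eq_zero.1 h5).resolve_right hg⟩

/-- `{x ∈ Qa : [g, x] ∈ Z1, x² = 1} = Z2` for `g ∉ Qa`, `p = 2` -/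
theorem Z2_of_a' (h2 : (2 : K) = 0) {g : GU K} (hg : g.a ≠ 0) {x : GU K} (hx : x ∈ Qa K) :
    x ∈ Z2 K ↔ g * x * g⁻¹ * x⁻¹ ∈ Z1 K ∧ x * x = 1 := by
  have hxa : x.a = 0 := hx
  constructor
  · intro h
    refine ⟨com_Z2 g h, ?_⟩
    obtain ⟨k1, k2, k3, k4⟩ := h
    refine eq_one_of ?_ ?_ ?_ ?_ ?_ ?_
    · simp [k1]
    · simp [k2]
    · simp [k1, k2, k3]
    · simp [k1, k2, k3, k4]
    · simp only [GU.mul_e, k1, k2, k3, k4]; linear_combination x.e * h2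
    · simp only [GU.mul_f, k1, k2, k3, k4]; linear_combination x.f * h2
  · rintro ⟨h, hsq⟩
    obtain ⟨k1, k2⟩ := (Z4_of_a hg hx).2 (Z2_le_Z3 (Z1_le_Z2 h))
    have h1 := h.2.2.2.2
    rw [comm_e, k1, k2] at h1
    have h4 : (x.d - g.a * x.c) * g.a = 0 := by
      linear_combination -h1 - (x.d * g.a - x.c * g.a ^ 2) * h2
    have h5 : x.d = g.a * x.c := by
      rcases mul_eq_zero.1 h4 with h6 | h6
      · exact sub_eq_zero.1 h6
      · exact absurd h6 hg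
    have h6 := congrArg GU.f hsq
    have h7 : (1 : GU K).f = 0 := rfl
    rw [h7] at h6
    simp only [GU.mul_f, k1, k2] at h6
    have h8 : g.a * x.c ^ 2 = 0 := by
      rw [h5] at h6
      linear_combination h6 - (x.f + g.a * x.c ^ 2) * h2
    have h9 : x.c = 0 := by
      rcases mul_eq_zero.1 h8 with h10 | h10
      · exact absurd h10 hg
      · exact pow_eq_zero_iff (two_ne_zero) |>.1 h10
    exact ⟨k1, k2, h9, by rw [h5, h9, mul_zero]⟩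

/-- `C_{Qa}(Z2) = Z4` -/
theorem Z4_iff_comm {x : GU K} (hx : x ∈ Qa K) : x ∈ Z4 K ↔ ∀ y ∈ Z2 K, x * y = y * x := by
  have hxa : x.a = 0 := hx
  constructor
  · rintro ⟨h1, h2⟩ y ⟨k1, k2, k3, k4⟩
    rw [Qa_comm hxa k1, h2, k2, k3, k4]; ring
  · intro h
    have h1 := (Qa_comm hxa rfl).1 (h ⟨0, 0, 0, 0, 1, 0⟩ ⟨rfl, rfl, rfl, rfl⟩)
    simp only at h1
    exact ⟨hxa, by linear_combination h1⟩

/-- `{x ∈ Qa : [g, x] ∈ Ya} = Z4` for `g ∉ Qa`, `p = 3` -/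
theorem Z4_of_a' (h3 : (3 : K) = 0) {g : GU K} (hg : g.a ≠ 0) {x : GU K} (hx : x ∈ Qa K) :
    x ∈ Z4 K ↔ g * x * g⁻¹ * x⁻¹ ∈ Ya K := by
  have hxa : x.a = 0 := hx
  constructor
  · rintro ⟨h1, h2⟩
    refine ⟨comm_a g x, comm_b g x, ?_⟩
    rw [comm_e, h1, h2]; linear_combination (-(x.d * g.a) - x.c * g.a ^ 2 + 2 * x.c * g.a ^ 2) * h3
  · rintro ⟨-, -, h1⟩
    rw [comm_e, hxa] at h1
    have h2 : x.b * g.a ^ 3 = 0 := by
      linear_combination -h1 - (x.d * g.a + x.c * g.a ^ 2 + (- 2 * x.c * g.a - x.b * g.a ^ 2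
        + 2 * (x.b * g.a) * (g.a)) * g.a + (- x.b * g.a) * g.a ^ 2) * h3
    refine ⟨hxa, (mul_eq_zero.1 h2).resolve_right (pow_ne_zero 3 hg)⟩

/-- `{x ∈ Ya : [g, x] = 1} = Zc` for `g ∉ Qa`, `p = 3` -/
theorem Zc_of_a (h3 : (3 : K) = 0) (h2 : (2 : K) ≠ 0) {g : GU K} (hg : g.a ≠ 0) {x : GU K} :
    x ∈ Zc K ↔ x ∈ Ya K ∧ g * x * g⁻¹ * x⁻¹ ∈ (⊥ : Subgroup (GU K)) := by
  constructor
  · intro h
    refine ⟨Zc_le_Ya h, ?_⟩
    obtain ⟨k1, k2, k3, k4⟩ := h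
    rw [Subgroup.mem_bot]
    refine eq_one_of (comm_a g x) (comm_b g x) ?_ ?_ ?_ ?_
    · rw [comm_c, k1, k2]; ring
    · rw [comm_d, k1, k2, k3]; ring
    · rw [comm_e, k1, k2, k3]; linear_combination (-x.d * g.a) * h3
    · rw [comm_f k1 k2, k3, k4]; linear_combination (-g.c * x.d) * h3
  · rintro ⟨⟨k1, k2, k4⟩, h⟩
    rw [Subgroup.mem_bot] at h
    have h1 := congrArg GU.d h
    rw [comm_d, k1, k2] at h1
    have h7 : (1 : GU K).d = 0 := rfl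
    rw [h7] at h1
    have h5 : 2 * (x.c * g.a) = 0 := by linear_combination -h1
    have h6 := (mul_eq_zero.1 h5).resolve_left h2
    exact ⟨k1, k2, (mul_eq_zero.1 h6).resolve_right hg, k4⟩

/-! ### the chains -/

/-- a chain of length 5 -/
def ch5 (A1 A2 A3 A4 A5 : Subgroup (GU K)) : ℕ → Subgroup (GU K)
  | 0 => ⊥
  | 1 => A1
  | 2 => A2
  | 3 => A3
  | 4 => A4
  | _ => A5

theorem com_bot {A : Subgroup (GU K)} (h : ∀ g : GU K, ∀ x ∈ A, g * x * g⁻¹ * x⁻¹ = 1) :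
    ∀ g ∈ (⊤ : Subgroup (GU K)), ∀ x ∈ A, g * x * g⁻¹ * x⁻¹ ∈ (⊥ : Subgroup (GU K)) := fun g _ x hx => by
  rw [Subgroup.mem_bot]; exact h g x hx

theorem inv_bot {Q : Subgroup (GU K)} (γ : MulAut Q) (x : Q) :
    (x : GU K) ∈ (⊥ : Subgroup (GU K)) ↔ ((γ x : Q) : GU K) ∈ (⊥ : Subgroup (GU K)) := by
  rw [Subgroup.mem_bot, Subgroup.mem_bot, OneMemClass.coe_eq_one, OneMemClass.coe_eq_one]
  exact (map_eq_one_iff γ γ.injective).symm

theorem inv_self {Q : Subgroup (GU K)} (γ : MulAut Q) (x : Q) : (x : GU K) ∈ Q ↔ ((γ x : Q) : GU K) ∈ Q :=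
  ⟨fun _ => (γ x).2, fun _ => x.2⟩

/-- the TI property for a chain of length 5 -/
theorem ti5 (hK : HypG K p n) {Q A1 A2 A3 A4 : Subgroup (GU K)} (m1 : A1 ≤ A2) (m2 : A2 ≤ A3) (m3 : A3 ≤ A4)
    (m4 : A4 ≤ Q) (c0 : ∀ g : GU K, ∀ x ∈ A1, g * x * g⁻¹ * x⁻¹ = 1)
    (c1 : ∀ g : GU K, ∀ x ∈ A2, g * x * g⁻¹ * x⁻¹ ∈ A1) (c2 : ∀ g : GU K, ∀ x ∈ A3, g * x * g⁻¹ * x⁻¹ ∈ A2)
    (c3 : ∀ g : GU K, ∀ x ∈ A4, g * x * g⁻¹ * x⁻¹ ∈ A3) (c4 : ∀ g : GU K, ∀ x ∈ Q, g * x * g⁻¹ * x⁻¹ ∈ A4)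
    (hinv : ∀ (γ t : MulAut Q) (g h : GU K), g ∉ Q → h ∉ Q → (∀ x : Q, ((t x : Q) : GU K) = g * (x : GU K) * g⁻¹) →
      (∀ x : Q, (((γ * t * γ⁻¹) x : Q) : GU K) = h * (x : GU K) * h⁻¹) →
      (∀ x : Q, (x : GU K) ∈ A1 ↔ ((γ x : Q) : GU K) ∈ A1) ∧ (∀ x : Q, (x : GU K) ∈ A2 ↔ ((γ x : Q) : GU K) ∈ A2) ∧
      (∀ x : Q, (x : GU K) ∈ A3 ↔ ((γ x : Q) : GU K) ∈ A3) ∧ (∀ x : Q, (x : GU K) ∈ A4 ↔ ((γ x : Q) : GU K) ∈ A4))
    {Γ : Subgroup (MulAut Q)} (hΓ : autInducedBy ⊤ Q ≤ Γ)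
    (hsyl : ∀ P : Subgroup (MulAut Q), P ≤ Γ → IsPGroup p P →
      ∃ g ∈ Γ, ∀ x ∈ P, g * x * g⁻¹ ∈ autInducedBy ⊤ Q) : TIAut (⊤ : Subgroup (GU K)) Γ := by
  have := hK.fin
  refine tiAut_of (exp_GU hK) (m := 5) (ch5 A1 A2 A3 A4 Q) rfl rfl (fun i hi => ?_) (fun i hi => ?_)
    (fun γ t g h hg hh h1 h2 i hi => ?_) hΓ hsyl
  · interval_cases i
    · exact bot_le
    · exact m1
    · exact m2
    · exact m3
    · exact m4
  · interval_cases i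
    · exact com_bot c0
    · exact fun g _ x hx => c1 g x hx
    · exact fun g _ x hx => c2 g x hx
    · exact fun g _ x hx => c3 g x hx
    · exact fun g _ x hx => c4 g x hx
  · obtain ⟨i1, i2, i3, i4⟩ := hinv γ t g h hg hh h1 h2
    interval_cases i
    · exact inv_bot γ
    · exact i1
    · exact i2
    · exact i3
    · exact i4

theorem com_Z3' (h2 : (2 : K) = 0) (g : GU K) {x : GU K} (hx : x ∈ Z4 K) : g * x * g⁻¹ * x⁻¹ ∈ Z2 K := by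
  obtain ⟨k1, k2, k3⟩ := com_Z4 g hx
  refine ⟨k1, k2, k3, ?_⟩
  rw [comm_d, hx.1, hx.2]
  linear_combination (-x.c * g.a) * h2

theorem com_Zc (h3 : (3 : K) = 0) (g : GU K) {x : GU K} (hx : x ∈ Zc K) : g * x * g⁻¹ * x⁻¹ = 1 := by
  obtain ⟨k1, k2, k3, k4⟩ := hx
  refine eq_one_of (comm_a g x) (comm_b g x) ?_ ?_ ?_ ?_
  · rw [comm_c, k1, k2]; ring
  · rw [comm_d, k1, k2, k3]; ring
  · rw [comm_e, k1, k2, k3]; linear_combination (-x.d * g.a) * h3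
  · rw [comm_f k1 k2, k3, k4]; linear_combination (-g.c * x.d) * h3

theorem com_Z3c (h3 : (3 : K) = 0) (g : GU K) {x : GU K} (hx : x ∈ Z3 K) : g * x * g⁻¹ * x⁻¹ ∈ Zc K := by
  obtain ⟨k1, k2, k3⟩ := hx
  refine ⟨comm_a g x, comm_b g x, ?_, ?_⟩
  · rw [comm_c, k1, k2]; ring
  · rw [comm_e, k1, k2, k3]; linear_combination (-x.d * g.a) * h3

theorem com_Ya (h3 : (3 : K) = 0) (g : GU K) {x : GU K} (hx : x ∈ Ya K) : g * x * g⁻¹ * x⁻¹ ∈ Zc K := by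
  obtain ⟨k1, k2, k3⟩ := hx
  refine ⟨comm_a g x, comm_b g x, ?_, ?_⟩
  · rw [comm_c, k1, k2]; ring
  · rw [comm_e, k1, k2]; linear_combination (-x.d * g.a + x.c * g.a ^ 2) * h3

theorem com_Z4' (h3 : (3 : K) = 0) (g : GU K) {x : GU K} (hx : x ∈ Z4 K) : g * x * g⁻¹ * x⁻¹ ∈ Ya K := by
  obtain ⟨k1, k2⟩ := hx
  refine ⟨comm_a g x, comm_b g x, ?_⟩
  rw [comm_e, k1, k2]; linear_combination (-x.d * g.a + x.c * g.a ^ 2) * h3

theorem tiA (hK : HypG K p n) {Γ : Subgroup (MulAut (Qa K))} (hΓ : autInducedBy ⊤ (Qa K) ≤ Γ)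
    (hsyl : ∀ P : Subgroup (MulAut (Qa K)), P ≤ Γ → IsPGroup p P →
      ∃ g ∈ Γ, ∀ x ∈ P, g * x * g⁻¹ ∈ autInducedBy ⊤ (Qa K)) : TIAut (⊤ : Subgroup (GU K)) Γ := by
  by_cases hp3 : p = 3
  · have h3 := three_eq hK hp3
    have h2 := two_ne hK (by omega)
    refine ti5 hK (A1 := Zc K) (A2 := Ya K) (A3 := Ya K) (A4 := Z4 K) Zc_le_Ya le_rfl Ya_le_Z4 Z4_le_Qa
      (fun g x hx => com_Zc h3 g hx) (fun g x hx => com_Ya h3 g hx) (fun g x hx => Zc_le_Ya (com_Ya h3 g hx))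
      (fun g x hx => com_Z4' h3 g hx) (fun g x _ => com_top g x) ?_ hΓ hsyl
    intro γ t g h hg hh h1 h2'
    have iY : ∀ x : Qa K, (x : GU K) ∈ Ya K ↔ ((γ x : Qa K) : GU K) ∈ Ya K :=
      inv_of_comm le_rfl (fun x hx => mem_Ya_iff h3 hx) γ (inv_self γ)
    refine ⟨fun x => ?_, iY, iY, inv_of_transport h1 h2' iY (fun g' hg' x hx => ?_)⟩
    · rw [Zc_of_a h3 h2 hg, Zc_of_a h3 h2 hh, iY x]
      exact and_congr Iff.rfl (transport h1 h2' (inv_bot γ) x)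
    · refine Z4_of_a' h3 ?_ hx
      rcases hg' with rfl | rfl
      · exact hg
      · exact hh
  · have h3 := three_ne hK hp3
    by_cases hp2 : p = 2
    · have h2 := two_eq hK hp2
      refine ti5 hK (A1 := Z1 K) (A2 := Z2 K) (A3 := Z2 K) (A4 := Z4 K) Z1_le_Z2 le_rfl (Z2_le_Z3.trans Z3_le_Z4) Z4_le_Qa
        (fun g x hx => com_Z1 g hx) (fun g x hx => com_Z2 g hx) (fun g x hx => Z1_le_Z2 (com_Z2 g hx))
        (fun g x hx => com_Z3' h2 g hx) (fun g x _ => com_top g x) ?_ hΓ hsyl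
      intro γ t g h hg hh h1 h2'
      have i1 : ∀ x : Qa K, (x : GU K) ∈ Z1 K ↔ ((γ x : Qa K) : GU K) ∈ Z1 K :=
        inv_of_comm le_rfl (fun x hx => mem_Z1_iff h3 hx) γ (inv_self γ)
      have i2 : ∀ x : Qa K, (x : GU K) ∈ Z2 K ↔ ((γ x : Qa K) : GU K) ∈ Z2 K := fun x => by
        rw [Z2_of_a' h2 hg x.2, Z2_of_a' h2 hh (γ x).2]
        refine and_congr (transport h1 h2' i1 x) ?_
        rw [← Subgroup.coe_mul, ← Subgroup.coe_mul, OneMemClass.coe_eq_one, OneMemClass.coe_eq_one, ← map_mul]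
        exact (map_eq_one_iff γ γ.injective).symm
      exact ⟨i1, i2, i2, inv_of_comm (Z2_le_Z3.trans (Z3_le_Z4.trans Z4_le_Qa)) (fun x hx => Z4_iff_comm hx) γ i2⟩
    · have h2 := two_ne hK hp2
      refine ti5 hK (A1 := Z1 K) (A2 := Z2 K) (A3 := Z3 K) (A4 := Z4 K) Z1_le_Z2 Z2_le_Z3 Z3_le_Z4 Z4_le_Qa
        (fun g x hx => com_Z1 g hx) (fun g x hx => com_Z2 g hx) (fun g x hx => com_Z3 g hx)
        (fun g x hx => com_Z4 g hx) (fun g x _ => com_top g x) ?_ hΓ hsyl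
      intro γ t g h hg hh h1 h2'
      have i1 : ∀ x : Qa K, (x : GU K) ∈ Z1 K ↔ ((γ x : Qa K) : GU K) ∈ Z1 K :=
        inv_of_comm le_rfl (fun x hx => mem_Z1_iff h3 hx) γ (inv_self γ)
      have i2 : ∀ x : Qa K, (x : GU K) ∈ Z2 K ↔ ((γ x : Qa K) : GU K) ∈ Z2 K :=
        inv_of_transport h1 h2' i1 (fun g' hg' x hx => Z2_of_a h3 h2 (by
          rcases hg' with rfl | rfl
          · exact hg
          · exact hh) hx)
      have i3 : ∀ x : Qa K, (x : GU K) ∈ Z3 K ↔ ((γ x : Qa K) : GU K) ∈ Z3 K :=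
        inv_of_transport h1 h2' i2 (fun g' hg' x hx => Z3_of_a h2 (by
          rcases hg' with rfl | rfl
          · exact hg
          · exact hh) hx)
      exact ⟨i1, i2, i3, inv_of_transport h1 h2' i3 (fun g' hg' x hx => Z4_of_a (by
          rcases hg' with rfl | rfl
          · exact hg
          · exact hh) hx)⟩

theorem tiB (hK : HypG K p n) {Γ : Subgroup (MulAut (Qb K))} (hΓ : autInducedBy ⊤ (Qb K) ≤ Γ)
    (hsyl : ∀ P : Subgroup (MulAut (Qb K)), P ≤ Γ → IsPGroup p P →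
      ∃ g ∈ Γ, ∀ x ∈ P, g * x * g⁻¹ ∈ autInducedBy ⊤ (Qb K)) : TIAut (⊤ : Subgroup (GU K)) Γ := by
  by_cases hp3 : p = 3
  · have h3 := three_eq hK hp3
    have h2 := two_ne hK (by omega)
    refine ti5 hK (A1 := Zc K) (A2 := Z3 K) (A3 := Z3 K) (A4 := Z4 K) Zc_le_Z3 le_rfl Z3_le_Z4 Z4_le_Qb
      (fun g x hx => com_Zc h3 g hx) (fun g x hx => com_Z3c h3 g hx) (fun g x hx => Zc_le_Z3 (com_Z3c h3 g hx))
      (fun g x hx => com_Z4 g hx) (fun g x _ => com_top g x) ?_ hΓ hsyl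
    intro γ t g h hg hh h1 h2'
    have iY : ∀ x : Qb K, (x : GU K) ∈ Z3 K ↔ ((γ x : Qb K) : GU K) ∈ Z3 K :=
      inv_of_comm le_rfl (fun x hx => mem_Z3_iff h3 h2 hx) γ (inv_self γ)
    refine ⟨fun x => ?_, iY, iY, inv_of_transport h1 h2' iY (fun g' hg' x hx => ?_)⟩
    · rw [Zc_of_b h3 hg, Zc_of_b h3 hh, iY x]
      exact and_congr Iff.rfl (transport h1 h2' (inv_bot γ) x)
    · refine Z4_of_b ?_ hx
      rcases hg' with rfl | rfl
      · exact hg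
      · exact hh
  · have h3 := three_ne hK hp3
    by_cases hp2 : p = 2
    · have h2 := two_eq hK hp2
      refine ti5 hK (A1 := Z1 K) (A2 := Z2 K) (A3 := Z2 K) (A4 := Z4 K) Z1_le_Z2 le_rfl (Z2_le_Z3.trans Z3_le_Z4) Z4_le_Qb
        (fun g x hx => com_Z1 g hx) (fun g x hx => com_Z2 g hx) (fun g x hx => Z1_le_Z2 (com_Z2 g hx))
        (fun g x hx => com_Z3' h2 g hx) (fun g x _ => com_top g x) ?_ hΓ hsyl
      intro γ t g h hg hh h1 h2'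
      have i2 : ∀ x : Qb K, (x : GU K) ∈ Z2 K ↔ ((γ x : Qb K) : GU K) ∈ Z2 K :=
        inv_of_comm le_rfl (fun x hx => mem_Z2_iff h3 hx) γ (inv_self γ)
      refine ⟨fun x => ?_, i2, i2, inv_of_transport h1 h2' i2 (fun g' hg' x hx => ?_)⟩
      · rw [Z1_of_b hg, Z1_of_b hh, i2 x]
        exact and_congr Iff.rfl (transport h1 h2' (inv_bot γ) x)
      · refine Z4_of_b' h2 ?_ hx
        rcases hg' with rfl | rfl
        · exact hg
        · exact hh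
    · have h2 := two_ne hK hp2
      refine ti5 hK (A1 := Z1 K) (A2 := Z2 K) (A3 := Z3 K) (A4 := Z4 K) Z1_le_Z2 Z2_le_Z3 Z3_le_Z4 Z4_le_Qb
        (fun g x hx => com_Z1 g hx) (fun g x hx => com_Z2 g hx) (fun g x hx => com_Z3 g hx)
        (fun g x hx => com_Z4 g hx) (fun g x _ => com_top g x) ?_ hΓ hsyl
      intro γ t g h hg hh h1 h2'
      have i2 : ∀ x : Qb K, (x : GU K) ∈ Z2 K ↔ ((γ x : Qb K) : GU K) ∈ Z2 K :=
        inv_of_comm le_rfl (fun x hx => mem_Z2_iff h3 hx) γ (inv_self γ)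
      have i3 : ∀ x : Qb K, (x : GU K) ∈ Z3 K ↔ ((γ x : Qb K) : GU K) ∈ Z3 K :=
        inv_of_com (fun x hx => mem_Z3_iff' h3 h2 hx) γ i2
      refine ⟨fun x => ?_, i2, i3, inv_of_transport h1 h2' i3 (fun g' hg' x hx => ?_)⟩
      · rw [Z1_of_b hg, Z1_of_b hh, i2 x]
        exact and_congr Iff.rfl (transport h1 h2' (inv_bot γ) x)
      · refine Z4_of_b ?_ hx
        rcases hg' with rfl | rfl
        · exact hg
        · exact hh

/-! ### characteristic subgroups -/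

section Char
variable {G : Type u} [Group G]

/-- `A` is invariant under all automorphisms -/
def Ch (A : Subgroup G) : Prop := ∀ α : MulAut G, ∀ x ∈ A, α x ∈ A

theorem Ch.map {A : Subgroup G} (h : Ch A) (α : MulAut G) : A.map α.toMonoidHom = A := by
  apply le_antisymm
  · rintro _ ⟨x, hx, rfl⟩
    exact h α x hx
  · intro x hx
    exact ⟨α⁻¹ x, h α⁻¹ x hx, MulAut.apply_inv_self _ α x⟩

/-- `A/N = Z(G/N)` -/
theorem ch_center {A N : Subgroup G} (hN : Ch N) (h : ∀ x, x ∈ A ↔ ∀ g : G, g * x * g⁻¹ * x⁻¹ ∈ N) : Ch A := by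
  intro α x hx
  rw [h] at hx ⊢
  intro g
  have h1 : α (α⁻¹ g) = g := MulAut.apply_inv_self _ α g
  have := hN α _ (hx (α⁻¹ g))
  rwa [map_mul, map_mul, map_mul, map_inv, map_inv, h1] at this

/-- `A = {x : [x, B] ≤ N}` -/
theorem ch_cent {A B N : Subgroup G} (hB : Ch B) (hN : Ch N) (h : ∀ x, x ∈ A ↔ ∀ y ∈ B, x * y * x⁻¹ * y⁻¹ ∈ N) : Ch A := by
  intro α x hx
  rw [h] at hx ⊢
  intro y hy
  have h1 : α (α⁻¹ y) = y := MulAut.apply_inv_self _ α y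
  have := hN α _ (hx (α⁻¹ y) (hB α⁻¹ y hy))
  rwa [map_mul, map_mul, map_mul, map_inv, map_inv, h1] at this

theorem ch_bot : Ch (⊥ : Subgroup G) := fun α x hx => by
  rw [Subgroup.mem_bot] at hx ⊢; rw [hx, map_one]

end Char

/-- the first conditions for an element of the centre modulo `N ≤ Z4` -/
theorem ab_of {x : GU K} (h1 : (( ⟨1, 0, 0, 0, 0, 0⟩ : GU K) * x * (⟨1, 0, 0, 0, 0, 0⟩ : GU K)⁻¹ * x⁻¹).c = 0)
    (h2 : (( ⟨0, 1, 0, 0, 0, 0⟩ : GU K) * x * (⟨0, 1, 0, 0, 0, 0⟩ : GU K)⁻¹ * x⁻¹).c = 0) : x.a = 0 ∧ x.b = 0 := by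
  rw [comm_c] at h1 h2
  simp only at h1 h2
  exact ⟨by linear_combination h2, by linear_combination -h1⟩

theorem ch_Z1 (h3 : (3 : K) ≠ 0) : Ch (Z1 K) := by
  refine ch_center ch_bot fun x => ⟨fun hx g => ?_, fun hx => ?_⟩
  · rw [Subgroup.mem_bot]; exact com_Z1 g hx
  · have hx' : ∀ g : GU K, g * x * g⁻¹ * x⁻¹ = 1 := fun g => Subgroup.mem_bot.1 (hx g)
    obtain ⟨ha, hb⟩ := ab_of (x := x) (by rw [hx']; rfl) (by rw [hx']; rfl)
    refine (mem_Z1_iff h3 (x := x) ha).2 fun y _ => ?_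
    exact (comm_iff_one.1 (hx' y)).symm

/-- the second centre for `p ≠ 3`, `q > 2` -/
theorem ch_Z2 (h3 : (3 : K) ≠ 0) {s : K} (hs0 : s ≠ 0) (hs1 : s ≠ 1) : Ch (Z2 K) := by
  refine ch_center (ch_Z1 h3) fun x => ⟨fun hx g => com_Z2 g hx, fun hx => ?_⟩
  obtain ⟨ha, hb⟩ := ab_of (x := x) (hx _).2.2.1 (hx _).2.2.1
  have e1 := (hx ⟨1, 0, 0, 0, 0, 0⟩).2.2.2.2
  have e2 := (hx ⟨s, 0, 0, 0, 0, 0⟩).2.2.2.2
  rw [comm_e, ha, hb] at e1 e2
  simp only at e1 e2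
  have k1 : 3 * (x.c - x.d) = 0 := by linear_combination e1
  have k2 : 3 * (s * (s * x.c - x.d)) = 0 := by linear_combination e2
  have k3 := (mul_eq_zero.1 k1).resolve_left h3
  have k4 := (mul_eq_zero.1 ((mul_eq_zero.1 k2).resolve_left h3)).resolve_left hs0
  have k5 : (s - 1) * x.c = 0 := by linear_combination k4 - k3
  have hc : x.c = 0 := (mul_eq_zero.1 k5).resolve_left (sub_ne_zero.2 hs1)
  exact ⟨ha, hb, hc, by linear_combination hc - k3⟩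

theorem ch_Qb (h3 : (3 : K) ≠ 0) {s : K} (hs0 : s ≠ 0) (hs1 : s ≠ 1) : Ch (Qb K) := by
  refine ch_cent (ch_Z2 h3 hs0 hs1) ch_bot fun x => ⟨fun hx y hy => ?_, fun hx => ?_⟩
  · rw [Subgroup.mem_bot]
    obtain ⟨k1, k2, k3, k4⟩ := hy
    have hxb : x.b = 0 := hx
    refine eq_one_of (comm_a x y) (comm_b x y) ?_ ?_ ?_ ?_
    · rw [comm_c, k1, k2]; ring
    · rw [comm_d, k1, k2, k3]; ring
    · rw [comm_e, k1, k2, k3, k4]; ring
    · rw [comm_f k1 k2, k3, k4, hxb]; ring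
  · have h1 := congrArg GU.f (Subgroup.mem_bot.1 (hx ⟨0, 0, 0, 0, 1, 0⟩ ⟨rfl, rfl, rfl, rfl⟩))
    rw [comm_f rfl rfl] at h1
    have h7 : (1 : GU K).f = 0 := rfl
    rw [h7] at h1
    simp only at h1
    show x.b = 0
    linear_combination h1

theorem ch_Z4 (h3 : (3 : K) ≠ 0) {s : K} (hs0 : s ≠ 0) (hs1 : s ≠ 1) : Ch (Z4 K) := by
  by_cases h2 : (2 : K) = 0
  · refine ch_center (ch_Z2 h3 hs0 hs1) fun x => ⟨fun hx g => com_Z3' h2 g hx, fun hx => ?_⟩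
    exact ab_of (x := x) (hx _).2.2.1 (hx _).2.2.1
  · have h5 : Ch (Z3 K) := by
      refine ch_center (ch_Z2 h3 hs0 hs1) fun x => ⟨fun hx g => com_Z3 g hx, fun hx => ?_⟩
      obtain ⟨ha, hb⟩ := ab_of (x := x) (hx _).2.2.1 (hx _).2.2.1
      have e1 := (hx ⟨1, 0, 0, 0, 0, 0⟩).2.2.2
      rw [comm_d, ha, hb] at e1
      simp only at e1
      have k1 : 2 * x.c = 0 := by linear_combination -e1
      exact ⟨ha, hb, (mul_eq_zero.1 k1).resolve_left h2⟩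
    refine ch_center h5 fun x => ⟨fun hx g => com_Z4 g hx, fun hx => ?_⟩
    exact ab_of (x := x) (hx _).2.2 (hx _).2.2

theorem ch_Qa (h3 : (3 : K) ≠ 0) {s : K} (hs0 : s ≠ 0) (hs1 : s ≠ 1) : Ch (Qa K) := by
  refine ch_cent (ch_Z4 h3 hs0 hs1) (ch_Z1 h3) fun x => ⟨fun hx y hy => ?_, fun hx => ?_⟩
  · have hxa : x.a = 0 := hx
    refine ⟨comm_a x y, comm_b x y, ?_, ?_, ?_⟩
    · rw [comm_c, hxa, hy.1, hy.2]; ring
    · rw [comm_d, hxa, hy.1, hy.2]; ring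
    · rw [comm_e, hxa, hy.1, hy.2]; ring
  · have e1 := (hx ⟨0, 0, 0, 1, 0, 0⟩ ⟨rfl, rfl⟩).2.2.2.2
    rw [comm_e] at e1
    simp only at e1
    have k1 : 3 * x.a = 0 := by linear_combination -e1
    exact (mul_eq_zero.1 k1).resolve_left h3

/-! `p = 3` -/

theorem ch_Zc (h3 : (3 : K) = 0) (h2 : (2 : K) ≠ 0) : Ch (Zc K) := by
  refine ch_center ch_bot fun x => ⟨fun hx g => ?_, fun hx => ?_⟩
  · rw [Subgroup.mem_bot]; exact com_Zc h3 g hx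
  · have hx' : ∀ g : GU K, g * x * g⁻¹ * x⁻¹ = 1 := fun g => Subgroup.mem_bot.1 (hx g)
    obtain ⟨ha, hb⟩ := ab_of (x := x) (by rw [hx']; rfl) (by rw [hx']; rfl)
    obtain ⟨-, -, hc⟩ := (mem_Z3_iff h3 h2 (x := x) hb).2 fun y _ => (comm_iff_one.1 (hx' y)).symm
    obtain ⟨-, -, he⟩ := (mem_Ya_iff h3 (x := x) ha).2 fun y _ => (comm_iff_one.1 (hx' y)).symm
    exact ⟨ha, hb, hc, he⟩

theorem ch_Z4' (h3 : (3 : K) = 0) (h2 : (2 : K) ≠ 0) : Ch (Z4 K) := by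
  refine ch_center (ch_Zc h3 h2) fun x => ⟨fun hx g => ?_, fun hx => ?_⟩
  · exact ⟨comm_a g x, comm_b g x, (com_Z4 g hx).2.2, (com_Z4' h3 g hx).2.2⟩
  · exact ab_of (x := x) (hx _).2.2.1 (hx _).2.2.1

/-- the elements of `Qa ∪ Qb` -/
theorem union_iff (h3 : (3 : K) = 0) (h2 : (2 : K) ≠ 0) {x : GU K} :
    (x ∈ Qa K ∨ x ∈ Qb K) ↔ ∃ z ∈ Z4 K, z ∉ Zc K ∧ x * z = z * x := by
  constructor
  · rintro (hx | hx)
    · refine ⟨⟨0, 0, 1, 0, 0, 0⟩, ⟨rfl, rfl⟩, fun h => one_ne_zero h.2.2.1, ?_⟩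
      exact ((mem_Ya_iff h3 (x := ⟨0, 0, 1, 0, 0, 0⟩) rfl).1 ⟨rfl, rfl, rfl⟩ x hx).symm
    · refine ⟨⟨0, 0, 0, 0, 1, 0⟩, ⟨rfl, rfl⟩, fun h => one_ne_zero h.2.2.2, ?_⟩
      exact ((mem_Z3_iff h3 h2 (x := ⟨0, 0, 0, 0, 1, 0⟩) rfl).1 ⟨rfl, rfl, rfl⟩ x hx).symm
  · rintro ⟨z, hz, hzc, hc⟩
    by_contra hcon
    rw [not_or] at hcon
    obtain ⟨ha, hb⟩ := hcon
    have ha' : x.a ≠ 0 := ha
    have hb' : x.b ≠ 0 := hb
    apply hzc
    have hcomm := comm_iff_one.2 hc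
    have k1 := congrArg GU.d hcomm
    have k2 := congrArg GU.f hcomm
    rw [comm_d, hz.1, hz.2] at k1
    rw [comm_f hz.1 hz.2] at k2
    have h7 : (1 : GU K).d = 0 := rfl
    have h8 : (1 : GU K).f = 0 := rfl
    rw [h7] at k1
    rw [h8] at k2
    have k3 : 2 * (z.c * x.a) = 0 := by linear_combination -k1
    have hzcc : z.c = 0 := (mul_eq_zero.1 ((mul_eq_zero.1 k3).resolve_left h2)).resolve_right ha'
    have k4 : x.b * z.e = 0 := by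
      linear_combination k2 - (x.d * z.c + x.a * z.c ^ 2 - x.c * z.d) * h3
    exact ⟨hz.1, hz.2, hzcc, (mul_eq_zero.1 k4).resolve_left hb'⟩

theorem not_le_ab : ¬ Qa K ≤ Qb K := fun h => by
  have : (⟨0, 1, 0, 0, 0, 0⟩ : GU K) ∈ Qb K := h rfl
  exact one_ne_zero (α := K) this

theorem not_le_ba : ¬ Qb K ≤ Qa K := fun h => by
  have : (⟨1, 0, 0, 0, 0, 0⟩ : GU K) ∈ Qa K := h rfl
  exact one_ne_zero (α := K) this

theorem map_le_or (h3 : (3 : K) = 0) (h2 : (2 : K) ≠ 0) {Q : Subgroup (GU K)} (hQ : Q = Qa K ∨ Q = Qb K)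
    (α : MulAut (GU K)) : Q.map α.toMonoidHom ≤ Qa K ∨ Q.map α.toMonoidHom ≤ Qb K := by
  have h : ∀ x ∈ Q, α x ∈ Qa K ∨ α x ∈ Qb K := by
    intro x hx
    have h1 : x ∈ Qa K ∨ x ∈ Qb K := by
      rcases hQ with rfl | rfl
      · exact Or.inl hx
      · exact Or.inr hx
    rw [union_iff h3 h2] at h1 ⊢
    obtain ⟨z, hz, hzc, hc⟩ := h1
    refine ⟨α z, ch_Z4' h3 h2 α z hz, fun hc' => hzc ?_, by rw [← map_mul, hc, map_mul]⟩
    have := ch_Zc h3 h2 α⁻¹ _ hc'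
    rwa [MulAut.inv_apply_self] at this
  by_contra hcon
  rw [not_or, SetLike.not_le_iff_exists, SetLike.not_le_iff_exists] at hcon
  obtain ⟨⟨_, ⟨x, hx, rfl⟩, hxa⟩, ⟨_, ⟨y, hy, rfl⟩, hyb⟩⟩ := hcon
  have hxb : α x ∈ Qb K := (h x hx).resolve_left hxa
  have hya : α y ∈ Qa K := (h y hy).resolve_right hyb
  rcases h (x * y) (Q.mul_mem hx hy) with h1 | h1
  · rw [map_mul] at h1
    exact hxa ((Subgroup.mul_mem_cancel_right _ hya).1 h1)
  · rw [map_mul] at h1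
    exact hyb ((Subgroup.mul_mem_cancel_left _ hxb).1 h1)

theorem map_map_inv (Q : Subgroup (GU K)) (α : MulAut (GU K)) :
    (Q.map α.toMonoidHom).map (α⁻¹ : MulAut (GU K)).toMonoidHom = Q := by
  ext x
  constructor
  · rintro ⟨_, ⟨y, hy, rfl⟩, rfl⟩
    have h : (α⁻¹ : MulAut (GU K)) (α y) = y := MulAut.inv_apply_self _ α y
    show (α⁻¹ : MulAut (GU K)) (α y) ∈ Q
    rw [h]; exact hy
  · intro hx
    exact ⟨α x, ⟨x, hx, rfl⟩, MulAut.inv_apply_self _ α x⟩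

theorem map_eq_or (h3 : (3 : K) = 0) (h2 : (2 : K) ≠ 0) {Q : Subgroup (GU K)} (hQ : Q = Qa K ∨ Q = Qb K)
    (α : MulAut (GU K)) : Q.map α.toMonoidHom = Qa K ∨ Q.map α.toMonoidHom = Qb K := by
  have key : ∀ Q' : Subgroup (GU K), (Q' = Qa K ∨ Q' = Qb K) → Q.map α.toMonoidHom ≤ Q' → Q.map α.toMonoidHom = Q' := by
    intro Q' hQ' hle
    have h1 : Q ≤ Q'.map (α⁻¹ : MulAut (GU K)).toMonoidHom := by
      rw [← map_map_inv Q α]
      exact Subgroup.map_mono hle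
    have h4 : Q'.map (α⁻¹ : MulAut (GU K)).toMonoidHom = Q := by
      rcases map_le_or h3 h2 hQ' α⁻¹ with h5 | h5
      · rcases hQ with rfl | rfl
        · exact le_antisymm h5 h1
        · exact absurd (h1.trans h5) not_le_ba
      · rcases hQ with rfl | rfl
        · exact absurd (h1.trans h5) not_le_ab
        · exact le_antisymm h5 h1
    have h6 := map_map_inv Q' α⁻¹
    rw [inv_inv] at h6
    rw [← h4, h6]
  rcases map_le_or h3 h2 hQ α with h | h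
  · exact Or.inl (key _ (Or.inl rfl) h)
  · exact Or.inr (key _ (Or.inr rfl) h)

/-! ### the statement -/

theorem stTI : Cfsg.Agent.H779.G2.StTI.{u} := by
  intro K _ p n hK hq Q hQ
  refine ⟨?_, ?_, ?_, ?_, ?_⟩
  · intro Γ hΓ hsyl
    rcases hQ with rfl | rfl
    · exact tiA hK hΓ hsyl
    · exact tiB hK hΓ hsyl
  · rintro x ⟨-, hx'⟩
    have hx : ∀ y ∈ (Q : Set (GU K)), y * x = x * y := Subgroup.mem_centralizer_iff.1 hx'
    rcases hQ with rfl | rfl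
    · have h1 := congrArg GU.c (hx ⟨0, 1, 0, 0, 0, 0⟩ rfl)
      simp only [GU.mul_c] at h1
      show x.a = 0
      linear_combination h1
    · have h1 := congrArg GU.c (hx ⟨1, 0, 0, 0, 0, 0⟩ rfl)
      simp only [GU.mul_c] at h1
      show x.b = 0
      linear_combination -h1
  · intro htop
    rcases hQ with rfl | rfl
    · exact not_le_ba (by rw [htop]; exact le_top)
    · exact not_le_ab (by rw [htop]; exact le_top)
  · intro hp3 α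
    have h3 := three_ne hK hp3
    obtain ⟨s, hs0, hs1⟩ := exists_ne hK hq
    rcases hQ with rfl | rfl
    · exact (ch_Qa h3 hs0 hs1).map α
    · exact (ch_Qb h3 hs0 hs1).map α
  · intro α
    by_cases hp3 : p = 3
    · exact map_eq_or (three_eq hK hp3) (two_ne hK (by omega)) hQ α
    · have h3 := three_ne hK hp3
      obtain ⟨s, hs0, hs1⟩ := exists_ne hK hq
      rcases hQ with rfl | rfl
      · exact Or.inl ((ch_Qa h3 hs0 hs1).map α)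
      · exact Or.inr ((ch_Qb h3 hs0 hs1).map α)

end

end Cfsg.Agent.H294.G2
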