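import Cfsg.Agent.H294.PU.Gen

/-!
# The generic TI argument with a chain of arbitrary length (helper294)

`ti_chain`: if `1 = M 0 ≤ M 1 ≤ ... ≤ M m = Q` is a chain of subgroups whose factors are centralized by `G` and which is
invariant under `γ ∈ Γ`, and `Aut_G(Q)` is a Sylow `p`-subgroup of `Γ`, then `γ` normalizes `Aut_G(Q)`.
-/

set_option autoImplicit false

namespace Cfsg.Agent.H294.G2

open Cfsg Cfsg.FusionSystem Cfsg.Agent.H756.PU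

universe u

section Gen

variable {Q : Type u} [Group Q]

/-- `β` stabilizes the chain `N` -/
structure ChN (m : ℕ) (N : ℕ → Subgroup Q) (β : MulAut Q) : Prop where
  inv : ∀ i ≤ m, ∀ x, x ∈ N i ↔ β x ∈ N i
  tr : ∀ i < m, ∀ x ∈ N (i + 1), β x * x⁻¹ ∈ N i

/-- the group of automorphisms stabilizing the chain -/
def ChNG (m : ℕ) (N : ℕ → Subgroup Q) : Subgroup (MulAut Q) where
  carrier := {β | ChN m N β}
  one_mem' := by
    refine ⟨fun i _ x => Iff.rfl, fun i _ x _ => ?_⟩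
    simpa using (N i).one_mem
  mul_mem' := by
    rintro α β ha hb
    refine ⟨fun i hi x => (hb.inv i hi x).trans (ha.inv i hi _), fun i hi x hx => ?_⟩
    have key : (α * β) x * x⁻¹ = (α (β x) * (β x)⁻¹) * (β x * x⁻¹) := by
      rw [MulAut.mul_apply]; group
    rw [key]
    exact (N i).mul_mem (ha.tr i hi _ ((hb.inv (i + 1) hi x).1 hx)) (hb.tr i hi x hx)
  inv_mem' := by
    intro α ha
    have hi : ∀ x, α (α⁻¹ x) = x := fun x => MulAut.apply_inv_self _ α x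
    have jj : ∀ i ≤ m, ∀ x, x ∈ N i ↔ α⁻¹ x ∈ N i := fun i hi' x => by rw [ha.inv i hi' (α⁻¹ x), hi]
    refine ⟨jj, fun i hi' x hx => ?_⟩
    have key : α⁻¹ x * x⁻¹ = (α (α⁻¹ x) * (α⁻¹ x)⁻¹)⁻¹ := by rw [hi]; group
    rw [key]
    exact (N i).inv_mem (ha.tr i hi' _ ((jj (i + 1) hi' x).1 hx))

theorem mem_ChNG {m : ℕ} {N : ℕ → Subgroup Q} {β : MulAut Q} : β ∈ ChNG m N ↔ ChN m N β := Iff.rfl

/-- the stabilizer of the chain is a `p`-group -/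
theorem isPGroup_ChNG {m : ℕ} {N : ℕ → Subgroup Q} (h0 : N 0 = ⊥) (hm : N m = ⊤) {p k : ℕ}
    (hexp : ∀ x : Q, x ^ p ^ k = 1) : IsPGroup p (ChNG m N) := by
  rintro ⟨β, hβ⟩
  have hpow : ∀ j, ChN m N (β ^ j) := fun j => (ChNG m N).pow_mem hβ j
  set e := p ^ k with he
  have key : ∀ i ≤ m, ∀ x ∈ N i, (β ^ e ^ i) x = x := by
    intro i
    induction i with
    | zero =>
      intro _ x hx
      rw [h0, Subgroup.mem_bot] at hx
      rw [hx, map_one]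
    | succ i ih =>
      intro hi x hx
      set δ := β ^ e ^ i with hδ
      have hn : δ x * x⁻¹ ∈ N i := (hpow _).tr i hi x hx
      set n := δ x * x⁻¹ with hnd
      have hfix : δ n = n := ih (by omega) n hn
      have h1 : ∀ j : ℕ, (δ ^ j) x = n ^ j * x := by
        intro j
        induction j with
        | zero => simp
        | succ j ihj =>
          have h2 : δ x = n * x := by rw [hnd]; group
          calc (δ ^ (j + 1)) x = δ ((δ ^ j) x) := by rw [pow_succ', MulAut.mul_apply]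
            _ = n ^ j * (n * x) := by rw [ihj, map_mul, map_pow, hfix, h2]
            _ = n ^ (j + 1) * x := by rw [pow_succ, mul_assoc (n ^ j) n x]
      rw [pow_succ, pow_mul, ← hδ, h1, hexp, one_mul]
  refine ⟨k * m, ?_⟩
  ext1
  rw [Subgroup.coe_pow, Subgroup.coe_one]
  change β ^ p ^ (k * m) = 1
  rw [pow_mul, ← he]
  ext x
  rw [MulAut.one_apply]
  exact key m le_rfl x (by rw [hm]; trivial)

end Gen

/-- **the TI argument** -/
theorem ti_chain {G : Type u} [Group G] [Finite G] {p k : ℕ} (hexp : ∀ x : G, x ^ p ^ k = 1)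
    {Q : Subgroup G} {m : ℕ} (M : ℕ → Subgroup G) (h0 : M 0 = ⊥) (hm : M m = Q)
    (hmono : ∀ i < m, M i ≤ M (i + 1)) (hcom : ∀ i < m, Com ⊤ (M (i + 1)) (M i))
    {Γ : Subgroup (MulAut Q)} (hΓ : autInducedBy ⊤ Q ≤ Γ)
    (hsyl : ∀ P : Subgroup (MulAut Q), P ≤ Γ → IsPGroup p P →
      ∃ g ∈ Γ, ∀ x ∈ P, g * x * g⁻¹ ∈ autInducedBy ⊤ Q)
    {γ : MulAut Q} (hγ : γ ∈ Γ)
    (hinv : ∀ i ≤ m, ∀ x : Q, (x : G) ∈ M i ↔ ((γ x : Q) : G) ∈ M i) : NormAut (⊤ : Subgroup G) γ := by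
  set N : ℕ → Subgroup Q := fun i => (M i).subgroupOf Q with hN
  set R0 : Subgroup (MulAut Q) := ChNG m N with hR0
  have hnor : ∀ i ≤ m, ∀ (g : G), ∀ x ∈ M i, g * x * g⁻¹ ∈ M i := by
    intro i hi g x hx
    rcases Nat.eq_zero_or_pos i with rfl | hpos
    · rw [h0, Subgroup.mem_bot] at hx ⊢
      rw [hx]; group
    · obtain ⟨j, rfl⟩ : ∃ j, i = j + 1 := ⟨i - 1, by omega⟩
      have h1 := hcom j (by omega) g (Subgroup.mem_top g) x hx
      have h2 := (M (j + 1)).mul_mem (hmono j (by omega) h1) hx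
      simpa [mul_assoc] using h2
  have iffn : ∀ i ≤ m, ∀ g x, x ∈ M i ↔ g * x * g⁻¹ ∈ M i := fun i hi g x => by
    refine ⟨hnor i hi g x, fun h => ?_⟩
    have := hnor i hi g⁻¹ _ h
    simpa [mul_assoc] using this
  have hTR : autInducedBy ⊤ Q ≤ R0 := by
    intro α hα
    obtain ⟨g, -, hg⟩ := (Cfsg.Agent.H802.mem_autInducedBy_iff _ _ _).1 hα
    rw [hR0, mem_ChNG]
    refine ⟨fun i hi x => ?_, fun i hi x hx => ?_⟩
    · simp only [hN]
      rw [Subgroup.mem_subgroupOf, Subgroup.mem_subgroupOf, hg]; exact iffn i hi g _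
    · simp only [hN] at hx ⊢
      rw [Subgroup.mem_subgroupOf] at hx ⊢
      rw [Subgroup.coe_mul, Subgroup.coe_inv, hg]; exact hcom i hi g (Subgroup.mem_top g) _ hx
  have hRp : IsPGroup p R0 := by
    refine isPGroup_ChNG (k := k) ?_ ?_ ?_
    · simp only [hN, h0]
      exact Subgroup.bot_subgroupOf Q
    · simp only [hN, hm]
      exact Subgroup.subgroupOf_self Q
    · intro x
      ext
      rw [Subgroup.coe_pow, hexp]; rfl
  have hγT : ∀ x ∈ autInducedBy (⊤ : Subgroup G) Q, γ * x * γ⁻¹ ∈ R0 := by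
    intro t ht
    have ht' : ChN m N t := hTR ht
    have hi : ∀ x, γ (γ⁻¹ x) = x := fun x => MulAut.apply_inv_self _ γ x
    have gi : ∀ i ≤ m, ∀ x : Q, x ∈ N i ↔ γ x ∈ N i := fun i hi' x => hinv i hi' x
    have jj : ∀ i ≤ m, ∀ x : Q, x ∈ N i ↔ γ⁻¹ x ∈ N i := fun i hi' x => by
      rw [gi i hi' (γ⁻¹ x), hi]
    have key : ∀ x, (γ * t * γ⁻¹) x * x⁻¹ = γ (t (γ⁻¹ x) * (γ⁻¹ x)⁻¹) := fun x => by
      rw [map_mul, map_inv, hi, MulAut.mul_apply, MulAut.mul_apply]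
    rw [hR0, mem_ChNG]
    refine ⟨fun i hi' x => ?_, fun i hi' x hx => ?_⟩
    · rw [MulAut.mul_apply, MulAut.mul_apply, jj i hi' x, ht'.inv i hi' (γ⁻¹ x), gi i hi']
    · rw [key, ← gi i (by omega)]
      exact ht'.tr i hi' _ ((jj (i + 1) hi' x).1 hx)
  have hRp' : IsPGroup p (R0 ⊓ Γ : Subgroup (MulAut Q)) := hRp.to_le inf_le_left
  refine H294.PU.norm_of_pgroup hsyl (R := R0 ⊓ Γ) inf_le_right hRp' (le_inf hTR hΓ) ?_
  intro x hx
  exact ⟨hγT x hx, Γ.mul_mem (Γ.mul_mem hγ (hΓ hx)) (Γ.inv_mem hγ)⟩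

/-! ### tools -/

section
variable {G : Type u} [Group G] {Q : Subgroup G}

/-- a subset of `Q` characterized by commutation with an invariant set is invariant -/
theorem inv_of_comm {A B : Subgroup G} (hB : B ≤ Q)
    (h : ∀ x ∈ Q, x ∈ A ↔ ∀ y ∈ B, x * y = y * x) (γ : MulAut Q)
    (hγ : ∀ x : Q, (x : G) ∈ B ↔ ((γ x : Q) : G) ∈ B) :
    ∀ x : Q, (x : G) ∈ A ↔ ((γ x : Q) : G) ∈ A := by
  intro x
  rw [h x x.2, h _ (γ x).2]
  constructor
  · intro hx y hy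
    set y' : Q := γ⁻¹ ⟨y, hB hy⟩ with hy'
    have h1 : γ y' = ⟨y, hB hy⟩ := MulAut.apply_inv_self _ γ _
    have h2 : (y' : G) ∈ B := by rw [hγ, h1]; exact hy
    have h3 : x * y' = y' * x := by ext1; exact hx _ h2
    have h4 := congrArg γ h3
    rw [map_mul, map_mul, h1] at h4
    exact congrArg Subtype.val h4
  · intro hx y hy
    have h2 := hx _ ((hγ ⟨y, hB hy⟩).1 hy)
    have h4 : γ (x * ⟨y, hB hy⟩) = γ (⟨y, hB hy⟩ * x) := by
      rw [map_mul, map_mul]; ext1; exact h2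
    exact congrArg Subtype.val (γ.injective h4)

/-- the preimage of the centre of `Q/N` is invariant -/
theorem inv_of_com {A N : Subgroup G} (h : ∀ x ∈ Q, x ∈ A ↔ ∀ y ∈ Q, y * x * y⁻¹ * x⁻¹ ∈ N) (γ : MulAut Q)
    (hγ : ∀ x : Q, (x : G) ∈ N ↔ ((γ x : Q) : G) ∈ N) :
    ∀ x : Q, (x : G) ∈ A ↔ ((γ x : Q) : G) ∈ A := by
  intro x
  rw [h x x.2, h _ (γ x).2]
  constructor
  · intro hx y hy
    set y' : Q := γ⁻¹ ⟨y, hy⟩ with hy'
    have h1 : γ y' = ⟨y, hy⟩ := MulAut.apply_inv_self _ γ _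
    have h2 := (hγ (y' * x * y'⁻¹ * x⁻¹)).1 (hx _ y'.2)
    rw [map_mul, map_mul, map_mul, map_inv, map_inv, h1] at h2
    exact h2
  · intro hx y hy
    have h2 := hx _ (γ ⟨y, hy⟩).2
    have h3 := (hγ ((⟨y, hy⟩ : Q) * x * (⟨y, hy⟩ : Q)⁻¹ * x⁻¹)).2 (by
      rw [map_mul, map_mul, map_mul, map_inv, map_inv]; exact h2)
    exact h3

/-- transport of the condition `[g, e] ∈ N` -/
theorem transport {N : Subgroup G} {γ t : MulAut Q} {g h : G}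
    (hg : ∀ x : Q, ((t x : Q) : G) = g * (x : G) * g⁻¹)
    (hh : ∀ x : Q, (((γ * t * γ⁻¹) x : Q) : G) = h * (x : G) * h⁻¹)
    (hN : ∀ x : Q, (x : G) ∈ N ↔ ((γ x : Q) : G) ∈ N) (e : Q) :
    g * (e : G) * g⁻¹ * (e : G)⁻¹ ∈ N ↔
      h * ((γ e : Q) : G) * h⁻¹ * ((γ e : Q) : G)⁻¹ ∈ N := by
  rw [← hg, ← hh]
  have h1 : (γ * t * γ⁻¹) (γ e) = γ (t e) := by
    rw [MulAut.mul_apply, MulAut.mul_apply, MulAut.inv_apply_self]
  rw [h1]
  have h2 := hN (t e * e⁻¹)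
  rw [map_mul, map_inv] at h2
  exact h2

/-- if `A = {x ∈ Q : [g, x] ∈ N}` for every `g` with the property `P`, then `A` is invariant -/
theorem inv_of_transport {A N : Subgroup G} {γ t : MulAut Q} {g h : G}
    (hg : ∀ x : Q, ((t x : Q) : G) = g * (x : G) * g⁻¹)
    (hh : ∀ x : Q, (((γ * t * γ⁻¹) x : Q) : G) = h * (x : G) * h⁻¹)
    (hN : ∀ x : Q, (x : G) ∈ N ↔ ((γ x : Q) : G) ∈ N)
    (hA : ∀ g' : G, (g' = g ∨ g' = h) → ∀ x ∈ Q, x ∈ A ↔ g' * x * g'⁻¹ * x⁻¹ ∈ N) :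
    ∀ x : Q, (x : G) ∈ A ↔ ((γ x : Q) : G) ∈ A := by
  intro x
  rw [hA g (Or.inl rfl) x x.2, hA h (Or.inr rfl) _ (γ x).2]
  exact transport hg hh hN x

theorem not_mem_of_not_inn {t : MulAut Q} {g : G}
    (hg : ∀ x : Q, ((t x : Q) : G) = g * (x : G) * g⁻¹) (ht : t ∉ Inn Q) : g ∉ Q := by
  intro hgQ
  apply ht
  refine ⟨⟨g, hgQ⟩, ?_⟩
  ext1 x
  apply Subtype.ext
  rw [hg]; rfl

theorem conj_not_inn {Q : Type u} [Group Q] {γ t : MulAut Q} (ht : t ∉ Inn Q) : γ * t * γ⁻¹ ∉ Inn Q := fun hc => by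
  apply ht
  obtain ⟨y, hy⟩ := hc
  refine ⟨γ⁻¹ y, ?_⟩
  have h1 : t = γ⁻¹ * (γ * t * γ⁻¹) * γ := by group
  rw [h1, ← hy]
  ext1 z
  rw [MulAut.mul_apply, MulAut.mul_apply, MulAut.conj_apply, MulAut.conj_apply, map_mul, map_mul,
    map_inv, MulAut.inv_apply_self]

/-- **TI from a chain depending on the outer element** -/
theorem tiAut_of {G : Type u} [Group G] [Finite G] {p k : ℕ} (hexp : ∀ x : G, x ^ p ^ k = 1)
    {Q : Subgroup G} {m : ℕ} (M : ℕ → Subgroup G) (h0 : M 0 = ⊥) (hm : M m = Q)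
    (hmono : ∀ i < m, M i ≤ M (i + 1)) (hcom : ∀ i < m, Com ⊤ (M (i + 1)) (M i))
    (hinv : ∀ (γ t : MulAut Q) (g h : G), g ∉ Q → h ∉ Q → (∀ x : Q, ((t x : Q) : G) = g * (x : G) * g⁻¹) →
      (∀ x : Q, (((γ * t * γ⁻¹) x : Q) : G) = h * (x : G) * h⁻¹) →
      ∀ i < m, ∀ x : Q, (x : G) ∈ M i ↔ ((γ x : Q) : G) ∈ M i)
    {Γ : Subgroup (MulAut Q)} (hΓ : autInducedBy ⊤ Q ≤ Γ)
    (hsyl : ∀ P : Subgroup (MulAut Q), P ≤ Γ → IsPGroup p P →
      ∃ g ∈ Γ, ∀ x ∈ P, g * x * g⁻¹ ∈ autInducedBy ⊤ Q) : TIAut (⊤ : Subgroup G) Γ := by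
  intro γ hγ t ht hti hti'
  obtain ⟨g, -, hg⟩ := (Cfsg.Agent.H802.mem_autInducedBy_iff _ _ _).1 ht
  obtain ⟨h, -, hh⟩ := (Cfsg.Agent.H802.mem_autInducedBy_iff _ _ _).1 hti'
  have hgQ : g ∉ Q := not_mem_of_not_inn hg hti
  have hhQ : h ∉ Q := not_mem_of_not_inn hh (conj_not_inn hti)
  refine ti_chain hexp M h0 hm hmono hcom hΓ hsyl hγ fun i hi x => ?_
  rcases Nat.lt_or_eq_of_le hi with h1 | h1
  · exact hinv γ t g h hgQ hhQ hg hh i h1 x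
  · rw [h1, hm]
    exact ⟨fun _ => (γ x).2, fun _ => x.2⟩

end

end Cfsg.Agent.H294.G2
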