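import Cfsg.Agent.H428.GT.LbZero
import Cfsg.Agent.H103.GT.Grp
import Cfsg.Agent.H294.G2.TI
import Cfsg.Agent.H779.G2.Stmts3
import Cfsg.Agent.H199.GT.Pos

/-!
# S5211, `p = 2`, the long root parabolic, first part (helper294)

The noncentral involutions of `Q_b` (`q` even) fall into `q + 2` classes under commuting; `Aut(Q_b)` acts on the classes.
-/

set_option autoImplicit false
set_option linter.unusedSectionVars false

namespace Cfsg.Agent.H294.G2.Ev

open Cfsg Cfsg.FusionSystem Cfsg.Agent.H756.PU Cfsg.Agent.H779.G2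
open Cfsg.Agent.H428.GT (qb gb qext ma mc mem_ind inn_le_ind inn_of_b qb_a qb_c qb_d qb_e qb_f)

universe u

variable {K : Type u} [Field K]

theorem mul_qb (a c d e f a' c' d' e' f' : K) : qb a c d e f * qb a' c' d' e' f' =
    qb (a + a') (c + c') (d + d' + 2 * c * a') (e + e' + 3 * d * a' + 3 * c * a' ^ 2)
      (f + f' + 3 * d * c' + 6 * c * a' * c' + 3 * c ^ 2 * a') := by
  apply qext
  · rfl
  · rw [mc]; rfl
  · rw [Subgroup.coe_mul, GU.mul_d, gb]
    simp only [qb_a, qb_c, qb_d, qb_e, qb_f]; ring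
  · rw [Subgroup.coe_mul, GU.mul_e, gb]
    simp only [qb_a, qb_c, qb_d, qb_e, qb_f]; ring
  · rw [Subgroup.coe_mul, GU.mul_f, gb, gb]
    simp only [qb_a, qb_c, qb_d, qb_e, qb_f]; ring

theorem qb_eta (g : Qb K) : g = qb (g : GU K).a (g : GU K).c (g : GU K).d (g : GU K).e (g : GU K).f :=
  qext rfl rfl rfl rfl rfl

theorem qb_zero : (qb 0 0 0 0 0 : Qb K) = 1 := qext rfl rfl rfl rfl rfl

/-- the decomposition of an element of `Q_b` -/
theorem qb_dec (g : Qb K) : g = qb (g : GU K).a 0 0 0 0 * qb 0 (g : GU K).c 0 0 0 * qb 0 0 (g : GU K).d 0 0 *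
    qb 0 0 0 (g : GU K).e (g : GU K).f := by
  conv_lhs => rw [qb_eta g]
  simp only [mul_qb]
  congr 1 <;> ring

/-- central in `Q_b` -/
def Cn (g : Qb K) : Prop := (g : GU K).a = 0 ∧ (g : GU K).c = 0 ∧ (g : GU K).d = 0

theorem cn_iff (g : Qb K) : Cn g ↔ (g : GU K) ∈ Z2 K :=
  ⟨fun h => ⟨h.1, gb g, h.2.1, h.2.2⟩, fun h => ⟨h.1, h.2.2.1, h.2.2.2⟩⟩

section char2

variable (h2 : (2 : K) = 0)

include h2

theorem three_ne' : (3 : K) ≠ 0 := by
  intro h3
  have : (1 : K) = 0 := by linear_combination h3 - h2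
  exact one_ne_zero this

theorem add_self' (x : K) : x + x = 0 := by linear_combination x * h2

theorem neg_eq' (x : K) : -x = x := by linear_combination (-x) * h2

theorem eq_of_add {x y : K} (h : x + y = 0) : x = y := by linear_combination h - y * h2

theorem add_of_eq {x y : K} (h : x = y) : x + y = 0 := by linear_combination h + y * h2

theorem cn_map (γ : MulAut (Qb K)) (g : Qb K) : Cn (γ g) ↔ Cn g := by
  have h3 := three_ne' h2
  have key : ∀ (γ : MulAut (Qb K)) (g : Qb K), Cn g → Cn (γ g) := by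
    intro γ g hg
    rw [cn_iff, mem_Z2_iff h3 (γ g).2]
    rw [cn_iff, mem_Z2_iff h3 g.2] at hg
    intro y hy
    have h1 := hg _ (γ⁻¹ ⟨y, hy⟩).2
    have h4 : g * γ⁻¹ ⟨y, hy⟩ = γ⁻¹ ⟨y, hy⟩ * g := Subtype.ext h1
    have h5 := congrArg γ h4
    rw [map_mul, map_mul, MulAut.apply_inv_self] at h5
    exact congrArg Subtype.val h5
  refine ⟨fun h => ?_, key γ g⟩
  have h1 := key γ⁻¹ _ h
  rwa [MulAut.inv_apply_self] at h1

theorem md' (g h : Qb K) : ((g * h : Qb K) : GU K).d = (g : GU K).d + (h : GU K).d := by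
  rw [Subgroup.coe_mul, GU.mul_d, gb]
  linear_combination ((g : GU K).c * (h : GU K).a) * h2

theorem me' (g h : Qb K) : ((g * h : Qb K) : GU K).e = (g : GU K).e + (h : GU K).e + (g : GU K).d * (h : GU K).a +
    (g : GU K).c * (h : GU K).a ^ 2 := by
  rw [Subgroup.coe_mul, GU.mul_e, gb]
  linear_combination ((g : GU K).d * (h : GU K).a + (g : GU K).c * (h : GU K).a ^ 2) * h2

theorem mf' (g h : Qb K) : ((g * h : Qb K) : GU K).f = (g : GU K).f + (h : GU K).f + (g : GU K).d * (h : GU K).c +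
    (g : GU K).c ^ 2 * (h : GU K).a := by
  rw [Subgroup.coe_mul, GU.mul_f, gb g, gb h]
  linear_combination ((g : GU K).d * (h : GU K).c + (g : GU K).c ^ 2 * (h : GU K).a +
    3 * (g : GU K).c * (h : GU K).a * (h : GU K).c) * h2

/-- squares -/
theorem sq_eq_one (g : Qb K) : g * g = 1 ↔ ((g : GU K).d + (g : GU K).a * (g : GU K).c) * (g : GU K).a = 0 ∧
    ((g : GU K).d + (g : GU K).a * (g : GU K).c) * (g : GU K).c = 0 := by
  constructor
  · intro h
    have he := congrArg (fun x : Qb K => (x : GU K).e) h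
    have hf := congrArg (fun x : Qb K => (x : GU K).f) h
    simp only [me' h2, mf' h2, Subgroup.coe_one, GU.one_e, GU.one_f] at he hf
    exact ⟨by linear_combination he - (g : GU K).e * h2, by linear_combination hf - (g : GU K).f * h2⟩
  · rintro ⟨he, hf⟩
    apply qext
    · rw [ma, Subgroup.coe_one, GU.one_a]; linear_combination (g : GU K).a * h2
    · rw [mc, Subgroup.coe_one, GU.one_c]; linear_combination (g : GU K).c * h2
    · rw [md' h2, Subgroup.coe_one, GU.one_d]; linear_combination (g : GU K).d * h2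
    · rw [me' h2, Subgroup.coe_one, GU.one_e]; linear_combination he + (g : GU K).e * h2
    · rw [mf' h2, Subgroup.coe_one, GU.one_f]; linear_combination hf + (g : GU K).f * h2

/-- a noncentral involution -/
def T (g : Qb K) : Prop := g * g = 1 ∧ ¬ Cn g

omit h2 in
/-- the class of a noncentral involution -/
noncomputable def pt (g : Qb K) : Option (Option K) :=
  open Classical in
  if (g : GU K).a = 0 then (if (g : GU K).c = 0 then none else some none) else some (some ((g : GU K).c / (g : GU K).a))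

omit h2 in
theorem pt_none {g : Qb K} : pt g = none ↔ (g : GU K).a = 0 ∧ (g : GU K).c = 0 := by
  classical
  unfold pt
  split_ifs with h1 h3
  · exact ⟨fun _ => ⟨h1, h3⟩, fun _ => rfl⟩
  · exact ⟨fun h => by simp at h, fun h => absurd h.2 h3⟩
  · exact ⟨fun h => by simp at h, fun h => absurd h.1 h1⟩

omit h2 in
theorem pt_inf {g : Qb K} : pt g = some none ↔ (g : GU K).a = 0 ∧ (g : GU K).c ≠ 0 := by
  classical
  unfold pt
  split_ifs with h1 h3
  · exact ⟨fun h => by simp at h, fun h => absurd h3 h.2⟩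
  · exact ⟨fun _ => ⟨h1, h3⟩, fun _ => rfl⟩
  · exact ⟨fun h => by simp at h, fun h => absurd h.1 h1⟩

omit h2 in
theorem pt_some {g : Qb K} {m : K} : pt g = some (some m) ↔ (g : GU K).a ≠ 0 ∧ (g : GU K).c = m * (g : GU K).a := by
  classical
  unfold pt
  split_ifs with h1 h3
  · exact ⟨fun h => by simp at h, fun h => absurd h1 h.1⟩
  · exact ⟨fun h => by simp at h, fun h => absurd h1 h.1⟩
  · rw [Option.some_inj, Option.some_inj, div_eq_iff h1]
    exact ⟨fun h => ⟨h1, h⟩, fun h => h.2⟩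

/-- `d = ac` or `a = c = 0` -/
theorem T.d_eq {g : Qb K} (hg : T g) (h : ¬ ((g : GU K).a = 0 ∧ (g : GU K).c = 0)) :
    (g : GU K).d = (g : GU K).a * (g : GU K).c := by
  obtain ⟨h3, h4⟩ := (sq_eq_one h2 g).1 hg.1
  apply eq_of_add h2
  by_contra h0
  exact h ⟨(mul_eq_zero.1 h3).resolve_left h0, (mul_eq_zero.1 h4).resolve_left h0⟩

omit h2 in
theorem T.d_ne {g : Qb K} (hg : T g) (ha : (g : GU K).a = 0) (hc : (g : GU K).c = 0) : (g : GU K).d ≠ 0 :=
  fun h => hg.2 ⟨ha, hc, h⟩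

theorem T_map (γ : MulAut (Qb K)) {g : Qb K} (hg : T g) : T (γ g) := by
  refine ⟨by rw [← map_mul, hg.1, map_one], ?_⟩
  rw [cn_map h2]
  exact hg.2

/-- commuting in `Q_b` -/
theorem comm_iff' (g h : Qb K) : g * h = h * g ↔
    (g : GU K).d * (h : GU K).a + (g : GU K).c * (h : GU K).a ^ 2 =
      (h : GU K).d * (g : GU K).a + (h : GU K).c * (g : GU K).a ^ 2 ∧
    (g : GU K).d * (h : GU K).c + (g : GU K).c ^ 2 * (h : GU K).a =
      (h : GU K).d * (g : GU K).c + (h : GU K).c ^ 2 * (g : GU K).a := by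
  constructor
  · intro hh
    have he := congrArg (fun x : Qb K => (x : GU K).e) hh
    have hf := congrArg (fun x : Qb K => (x : GU K).f) hh
    simp only [me' h2, mf' h2] at he hf
    exact ⟨by linear_combination he, by linear_combination hf⟩
  · rintro ⟨he, hf⟩
    apply qext
    · rw [ma, ma, add_comm]
    · rw [mc, mc, add_comm]
    · rw [md' h2, md' h2, add_comm]
    · rw [me' h2, me' h2]; linear_combination he
    · rw [mf' h2, mf' h2]; linear_combination hf

/-- noncentral involutions commute if and only if they are in the same class -/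
theorem comm_iff_pt {g h : Qb K} (hg : T g) (hh : T h) : g * h = h * g ↔ pt g = pt h := by
  rw [comm_iff' h2]
  by_cases hg0 : (g : GU K).a = 0 ∧ (g : GU K).c = 0
  · rw [pt_none.2 hg0]
    obtain ⟨ga, gc⟩ := hg0
    have gd := hg.d_ne ga gc
    rw [eq_comm (a := none), pt_none, ga, gc]
    constructor
    · rintro ⟨h3, h4⟩
      have h5 : (g : GU K).d * (h : GU K).a = 0 := by linear_combination h3
      have h6 : (g : GU K).d * (h : GU K).c = 0 := by linear_combination h4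
      exact ⟨(mul_eq_zero.1 h5).resolve_left gd, (mul_eq_zero.1 h6).resolve_left gd⟩
    · rintro ⟨h3, h4⟩
      rw [h3, h4]
      constructor <;> ring
  · by_cases hh0 : (h : GU K).a = 0 ∧ (h : GU K).c = 0
    · rw [pt_none.2 hh0, pt_none]
      obtain ⟨ha, hc⟩ := hh0
      have hd := hh.d_ne ha hc
      rw [ha, hc]
      constructor
      · rintro ⟨h3, h4⟩
        have h5 : (h : GU K).d * (g : GU K).a = 0 := by linear_combination -h3
        have h6 : (h : GU K).d * (g : GU K).c = 0 := by linear_combination -h4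
        exact ⟨(mul_eq_zero.1 h5).resolve_left hd, (mul_eq_zero.1 h6).resolve_left hd⟩
      · rintro ⟨h3, h4⟩
        exact absurd ⟨h3, h4⟩ hg0
    · have gd := hg.d_eq h2 hg0
      have hd := hh.d_eq h2 hh0
      rw [gd, hd]
      -- both conditions are `det = 0`
      have key : ((g : GU K).a * (g : GU K).c * (h : GU K).a + (g : GU K).c * (h : GU K).a ^ 2 =
          (h : GU K).a * (h : GU K).c * (g : GU K).a + (h : GU K).c * (g : GU K).a ^ 2 ∧
          (g : GU K).a * (g : GU K).c * (h : GU K).c + (g : GU K).c ^ 2 * (h : GU K).a =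
          (h : GU K).a * (h : GU K).c * (g : GU K).c + (h : GU K).c ^ 2 * (g : GU K).a) ↔
          (g : GU K).a * (h : GU K).c = (g : GU K).c * (h : GU K).a := by
        constructor
        · rintro ⟨h3, h4⟩
          have h5 : ((g : GU K).a * (h : GU K).c + (g : GU K).c * (h : GU K).a) * ((g : GU K).a + (h : GU K).a) = 0 := by
            linear_combination h3 + ((g : GU K).a ^ 2 * (h : GU K).c + (h : GU K).a * (h : GU K).c * (g : GU K).a) * h2
          have h6 : ((g : GU K).a * (h : GU K).c + (g : GU K).c * (h : GU K).a) * ((g : GU K).c + (h : GU K).c) = 0 := by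
            linear_combination h4 + ((g : GU K).a * (h : GU K).c ^ 2 + (h : GU K).a * (h : GU K).c * (g : GU K).c) * h2
          by_contra h0
          have h7 : (g : GU K).a * (h : GU K).c + (g : GU K).c * (h : GU K).a ≠ 0 := fun h8 => h0 (eq_of_add h2 h8)
          have h8 := eq_of_add h2 ((mul_eq_zero.1 h5).resolve_left h7)
          have h9 := eq_of_add h2 ((mul_eq_zero.1 h6).resolve_left h7)
          exact h0 (by rw [h8, h9]; ring)
        · intro h3
          constructor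
          · linear_combination (-(h : GU K).a - (g : GU K).a) * h3
          · linear_combination ((g : GU K).c - (h : GU K).c) * h3 +
              ((g : GU K).c ^ 2 * (h : GU K).a - (g : GU K).c * (h : GU K).c * (h : GU K).a) * h2
      rw [key]
      by_cases ga : (g : GU K).a = 0
      · have gc : (g : GU K).c ≠ 0 := fun hc => hg0 ⟨ga, hc⟩
        rw [pt_inf.2 ⟨ga, gc⟩, eq_comm (a := some none), pt_inf, ga]
        constructor
        · intro h3
          have h4 : (g : GU K).c * (h : GU K).a = 0 := by linear_combination -h3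
          have h5 := (mul_eq_zero.1 h4).resolve_left gc
          exact ⟨h5, fun hc => hh0 ⟨h5, hc⟩⟩
        · rintro ⟨h3, -⟩
          rw [h3]
          ring
      · rw [pt_some.2 ⟨ga, (div_mul_cancel₀ (g : GU K).c ga).symm⟩, eq_comm (a := some (some _)), pt_some]
        constructor
        · intro h3
          refine ⟨fun ha => ?_, ?_⟩
          · rw [ha, mul_zero] at h3
            exact hh0 ⟨ha, (mul_eq_zero.1 h3).resolve_left ga⟩
          · rw [div_mul_eq_mul_div, eq_div_iff ga]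
            linear_combination h3
        · rintro ⟨-, h3⟩
          rw [h3]
          field_simp

/-- representatives -/
def rep : Option (Option K) → Qb K
  | none => qb 0 0 1 0 0
  | some none => qb 0 1 0 0 0
  | some (some m) => qb 1 m m 0 0

theorem T_rep (i : Option (Option K)) : T (rep i) := by
  rcases i with _ | _ | m
  · refine ⟨(sq_eq_one h2 _).2 ?_, fun h => ?_⟩
    · simp [rep]
    · exact one_ne_zero h.2.2
  · refine ⟨(sq_eq_one h2 _).2 ?_, fun h => ?_⟩
    · simp [rep]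
    · exact one_ne_zero h.2.1
  · refine ⟨(sq_eq_one h2 _).2 ?_, fun h => ?_⟩
    · have h3 : m + 1 * m = 0 := by linear_combination m * h2
      simp only [rep, qb_a, qb_c, qb_d]
      rw [h3, zero_mul, zero_mul]
      exact ⟨rfl, rfl⟩
    · exact one_ne_zero h.1

omit h2 in
theorem pt_rep (i : Option (Option K)) : pt (rep i) = i := by
  rcases i with _ | _ | m
  · exact pt_none.2 ⟨rfl, rfl⟩
  · exact pt_inf.2 ⟨rfl, one_ne_zero⟩
  · exact pt_some.2 ⟨one_ne_zero, (mul_one m).symm⟩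

omit h2 in
/-- the action on the classes -/
noncomputable def act (γ : MulAut (Qb K)) (i : Option (Option K)) : Option (Option K) := pt (γ (rep i))

theorem pt_map (γ : MulAut (Qb K)) {g : Qb K} (hg : T g) : pt (γ g) = act γ (pt g) := by
  unfold act
  rw [← comm_iff_pt h2 (T_map h2 γ hg) (T_map h2 γ (T_rep h2 _)), ← map_mul, ← map_mul, γ.apply_eq_iff_eq,
    comm_iff_pt h2 hg (T_rep h2 _), pt_rep]

omit h2 in
theorem act_one (i : Option (Option K)) : act 1 i = i := pt_rep i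

theorem act_mul (γ δ : MulAut (Qb K)) (i : Option (Option K)) : act (γ * δ) i = act γ (act δ i) := by
  show pt (γ (δ (rep i))) = _
  rw [pt_map h2 γ (T_map h2 δ (T_rep h2 i))]
  rfl

theorem act_inj (γ : MulAut (Qb K)) {i j : Option (Option K)} (h : act γ i = act γ j) : i = j := by
  have h1 := congrArg (act γ⁻¹) h
  rwa [← act_mul h2, ← act_mul h2, inv_mul_cancel, act_one, act_one] at h1

theorem act_inv (γ : MulAut (Qb K)) {i j : Option (Option K)} (h : act γ i = j) : act γ⁻¹ j = i := by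
  rw [← h, ← act_mul h2, inv_mul_cancel, act_one]

/-! ### conjugation by elements of `S` -/

omit h2 in
theorem cj_a (x : GU K) (g : Qb K) : ((MulAut.conjNormal x g : Qb K) : GU K).a = (g : GU K).a :=
  Cfsg.Agent.H428.GT.cj_a x g

omit h2 in
theorem cj_c (x : GU K) (g : Qb K) : ((MulAut.conjNormal x g : Qb K) : GU K).c = (g : GU K).c + x.b * (g : GU K).a :=
  Cfsg.Agent.H428.GT.cj_c x g

theorem cj_d (x : GU K) (g : Qb K) : ((MulAut.conjNormal x g : Qb K) : GU K).d = (g : GU K).d + x.b * (g : GU K).a ^ 2 := by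
  rw [MulAut.conjNormal_apply]
  simp only [GU.mul_d, GU.mul_c, GU.mul_b, GU.inv_a, GU.inv_b, GU.inv_c, GU.inv_d, gb]
  linear_combination (x.c * (g : GU K).a - x.a * (g : GU K).c - x.a * x.b * (g : GU K).a) * h2

theorem act_cj (x : GU K) (i : Option (Option K)) : act (MulAut.conjNormal x) i =
    match i with
    | none => none
    | some none => some none
    | some (some m) => some (some (m + x.b)) := by
  rcases i with _ | _ | m
  · refine pt_none.2 ⟨?_, ?_⟩
    · rw [cj_a]; rfl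
    · rw [cj_c]; simp [rep]
  · refine pt_inf.2 ⟨?_, ?_⟩
    · rw [cj_a]; rfl
    · rw [cj_c]; simp [rep]
  · refine pt_some.2 ⟨?_, ?_⟩
    · rw [cj_a]; simp [rep]
    · rw [cj_c, cj_a]; simp [rep]

/-! ### automorphisms trivial modulo the centre -/

omit h2 in
/-- trivial on `Q_b / Z₂` -/
def Tz (γ : MulAut (Qb K)) : Prop :=
  ∀ g : Qb K, ((γ g : Qb K) : GU K).a = (g : GU K).a ∧ ((γ g : Qb K) : GU K).c = (g : GU K).c ∧
    ((γ g : Qb K) : GU K).d = (g : GU K).d

theorem eq_mod_iff (g h : Qb K) : Cn (g⁻¹ * h) ↔ (g : GU K).a = (h : GU K).a ∧ (g : GU K).c = (h : GU K).c ∧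
    (g : GU K).d = (h : GU K).d := by
  constructor
  · rintro ⟨h3, h4, h5⟩
    have e : h = g * (g⁻¹ * h) := by group
    refine ⟨?_, ?_, ?_⟩
    · rw [e, ma, h3, add_zero]
    · rw [e, mc, h4, add_zero]
    · rw [e, md' h2, h5, add_zero]
  · rintro ⟨h3, h4, h5⟩
    have e : h = g * (g⁻¹ * h) := by group
    refine ⟨?_, ?_, ?_⟩
    · have := h3
      rw [e, ma] at this
      linear_combination -this
    · have := h4
      rw [e, mc] at this
      linear_combination -this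
    · have := h5
      rw [e, md' h2] at this
      linear_combination -this

theorem Tz_iff {γ : MulAut (Qb K)} : Tz γ ↔ ∀ g, Cn (g⁻¹ * γ g) := by
  constructor
  · intro h g
    rw [eq_mod_iff h2]
    exact ⟨(h g).1.symm, (h g).2.1.symm, (h g).2.2.symm⟩
  · intro h g
    have h1 := (eq_mod_iff h2 g (γ g)).1 (h g)
    exact ⟨h1.1.symm, h1.2.1.symm, h1.2.2.symm⟩

omit h2 in
theorem Tz.mul {γ δ : MulAut (Qb K)} (h : Tz γ) (h' : Tz δ) : Tz (γ * δ) := fun g => by
  rw [MulAut.mul_apply, (h _).1, (h _).2.1, (h _).2.2, (h' _).1, (h' _).2.1, (h' _).2.2]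
  exact ⟨rfl, rfl, rfl⟩

omit h2 in
theorem Tz.inv {γ : MulAut (Qb K)} (h : Tz γ) : Tz γ⁻¹ := fun g => by
  have h1 := h (γ⁻¹ g)
  rw [MulAut.apply_inv_self] at h1
  exact ⟨h1.1.symm, h1.2.1.symm, h1.2.2.symm⟩

theorem Tz.conj {κ : MulAut (Qb K)} (h : Tz κ) (γ : MulAut (Qb K)) : Tz (γ * κ * γ⁻¹) := by
  rw [Tz_iff h2] at h ⊢
  intro g
  have h1 := h (γ⁻¹ g)
  rw [← cn_map h2 γ, map_mul, map_inv, MulAut.apply_inv_self] at h1
  exact h1

/-- the elements of the centre are squares times squares -/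
theorem Tz.fix {κ : MulAut (Qb K)} (h : Tz κ) {z : Qb K} (hz : Cn z) : κ z = z := by
  have key : ∀ g : Qb K, κ (g * g) = g * g := by
    intro g
    have h1 := (Tz_iff h2).1 h g
    have h3 : κ g = g * (g⁻¹ * κ g) := by group
    have h4 : ∀ y : Qb K, (g⁻¹ * κ g) * y = y * (g⁻¹ * κ g) := fun y => Subtype.ext
      ((mem_Z2_iff (three_ne' h2) (g⁻¹ * κ g).2).1 ((cn_iff _).1 h1) y y.2)
    have h5 : (g⁻¹ * κ g) * (g⁻¹ * κ g) = 1 := by
      rw [sq_eq_one h2, h1.1, h1.2.1, h1.2.2]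
      constructor <;> ring
    rw [map_mul, h3]
    calc g * (g⁻¹ * κ g) * (g * (g⁻¹ * κ g)) = g * ((g⁻¹ * κ g) * g) * (g⁻¹ * κ g) := by group
      _ = g * (g * (g⁻¹ * κ g)) * (g⁻¹ * κ g) := by rw [h4]
      _ = g * g * ((g⁻¹ * κ g) * (g⁻¹ * κ g)) := by group
      _ = g * g := by rw [h5, mul_one]
  have h6 : z = (qb 1 0 (z : GU K).e 0 0 * qb 1 0 (z : GU K).e 0 0) *
      (qb 0 1 (z : GU K).f 0 0 * qb 0 1 (z : GU K).f 0 0) := by
    apply qext
    · rw [ma, ma, ma, hz.1]; simp only [qb_a]; linear_combination -h2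
    · rw [mc, mc, mc, hz.2.1]; simp only [qb_c]; linear_combination -h2
    · rw [md' h2, md' h2, md' h2, hz.2.2]; simp only [qb_d]
      linear_combination (-(z : GU K).e - (z : GU K).f) * h2
    · simp only [me' h2, md' h2, mc, ma, qb_a, qb_c, qb_d, qb_e]; ring
    · simp only [mf' h2, md' h2, mc, ma, qb_a, qb_c, qb_d, qb_f]
      linear_combination (-2 * (z : GU K).e) * h2
  rw [h6, map_mul, key, key]

theorem Tz.sq {κ : MulAut (Qb K)} (h : Tz κ) : κ * κ = 1 := by
  ext1 g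
  have h1 := (Tz_iff h2).1 h g
  have h3 : κ g = g * (g⁻¹ * κ g) := by group
  have h5 : (g⁻¹ * κ g) * (g⁻¹ * κ g) = 1 := by
    rw [sq_eq_one h2, h1.1, h1.2.1, h1.2.2]
    constructor <;> ring
  show κ (κ g) = g
  have h6 : κ (κ g) = κ g * κ (g⁻¹ * κ g) := by rw [← map_mul, ← h3]
  rw [h6, h.fix h2 h1]
  calc κ g * (g⁻¹ * κ g) = g * (g⁻¹ * κ g) * (g⁻¹ * κ g) := by rw [← h3]
    _ = g * ((g⁻¹ * κ g) * (g⁻¹ * κ g)) := by group
    _ = g := by rw [h5, mul_one]

end char2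

end Cfsg.Agent.H294.G2.Ev

/-!
## S5211, `p = 2`, the long root parabolic, second part: `StLb4a` (helper294)

* `normAut_of` : `γ ∈ Γ` normalizes `Aut_S(Q_b)` as soon as `γ c_x γ⁻¹` is `c_y` modulo the automorphisms trivial on `Q_b / Z₂`;
* `ker_act` : the kernel of the action on the classes;
* `not_trans` : `Γ` is not transitive on the `q + 2` classes;
* `stLb4a`.
-/

namespace Cfsg.Agent.H294.G2.Ev

open Cfsg Cfsg.FusionSystem Cfsg.Agent.H756.PU Cfsg.Agent.H779.G2
open Cfsg.Agent.H428.GT (qb gb qext ma mc mem_ind inn_le_ind inn_of_b qb_a qb_c qb_d qb_e qb_f)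

universe u

variable {K : Type u} [Field K] {n : ℕ} (hK : HypG K 2 n)

include hK

theorem two : (2 : K) = 0 := two_eq hK rfl

theorem finK : Finite K := hK.fin

section Par

variable {Γ : Subgroup (MulAut (Qb K))} {D : Subgroup (MulAut (GU K))} (hP : Par 2 (Qb K) Γ D)

omit hK in
theorem cj_mem_ind (x : GU K) : (MulAut.conjNormal x : MulAut (Qb K)) ∈ autInducedBy ⊤ (Qb K) := mem_ind.2 ⟨x, rfl⟩

include hP

omit hK in
theorem cj_mem (x : GU K) : (MulAut.conjNormal x : MulAut (Qb K)) ∈ Γ := hP.indu (cj_mem_ind x)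

/-- the elements of `Γ` trivial on `Q_b / Z₂` are in `Aut_S(Q_b)` -/
theorem tz_le {κ : MulAut (Qb K)} (hκ : κ ∈ Γ) (h : Tz κ) : κ ∈ autInducedBy ⊤ (Qb K) := by
  have h2 := two hK
  let N : Subgroup (MulAut (Qb K)) :=
    { carrier := {κ | κ ∈ Γ ∧ Tz κ}
      one_mem' := ⟨Γ.one_mem, fun _ => ⟨rfl, rfl, rfl⟩⟩
      mul_mem' := fun ha hb => ⟨Γ.mul_mem ha.1 hb.1, ha.2.mul hb.2⟩
      inv_mem' := fun ha => ⟨Γ.inv_mem ha.1, ha.2.inv⟩ }
  obtain ⟨g, hg, h1⟩ := hP.syl N (fun x hx => hx.1) (fun x => ⟨1, Subtype.ext (by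
    rw [pow_one, pow_two]
    exact x.2.2.sq h2)⟩)
  have h3 : g⁻¹ * κ * g ∈ N := ⟨Γ.mul_mem (Γ.mul_mem (Γ.inv_mem hg) hκ) hg, by
    have := h.conj h2 g⁻¹
    rwa [inv_inv] at this⟩
  have h4 := h1 _ h3
  have h5 : g * (g⁻¹ * κ * g) * g⁻¹ = κ := by group
  rwa [h5] at h4

theorem normAut_of {γ : MulAut (Qb K)} (hγ : γ ∈ Γ) (h : ∀ x : GU K, ∃ y : GU K,
    Tz (γ * MulAut.conjNormal x * γ⁻¹ * (MulAut.conjNormal y)⁻¹)) : NormAut ⊤ γ := by
  intro a ha
  obtain ⟨x, rfl⟩ := mem_ind.1 ha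
  obtain ⟨y, hy⟩ := h x
  have h1 : γ * MulAut.conjNormal x * γ⁻¹ * (MulAut.conjNormal y)⁻¹ ∈ autInducedBy ⊤ (Qb K) :=
    tz_le hK hP (Γ.mul_mem (Γ.mul_mem (Γ.mul_mem hγ (cj_mem hP x)) (Γ.inv_mem hγ)) (Γ.inv_mem (cj_mem hP y))) hy
  have h3 := (autInducedBy ⊤ (Qb K)).mul_mem h1 (cj_mem_ind y)
  rwa [inv_mul_cancel_right] at h3

/-- `Aut_S(Q_b)` is a Sylow subgroup: odd index -/
theorem odd_index : ¬ 2 ∣ ((autInducedBy ⊤ (Qb K)).subgroupOf Γ).index := by
  have := hK.fin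
  have : Fact (Nat.Prime 2) := ⟨Nat.prime_two⟩
  have hfin : Finite (MulAut (Qb K)) :=
    Finite.of_injective (fun σ : MulAut (Qb K) => (σ : Qb K → Qb K)) DFunLike.coe_injective
  set P : Subgroup Γ := (autInducedBy ⊤ (Qb K)).subgroupOf Γ with hPdef
  have hPp : IsPGroup 2 P := by
    intro x
    obtain ⟨y, hy⟩ := mem_ind.1 (Subgroup.mem_subgroupOf.1 x.2)
    refine ⟨3, Subtype.ext (Subtype.ext ?_)⟩
    have h1 := exp_GU hK y
    show ((x : Γ) : MulAut (Qb K)) ^ 2 ^ 3 = 1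
    rw [hy, ← map_pow, h1, map_one]
  have cP : Nat.card P = Nat.card (autInducedBy ⊤ (Qb K)) :=
    Nat.card_congr (Subgroup.subgroupOfEquivOfLe hP.indu).toEquiv
  obtain ⟨Q, hQ⟩ := hPp.exists_le_sylow
  have h1 : Nat.card Q ≤ Nat.card P := by
    obtain ⟨g, hg, h3⟩ := hP.syl ((Q : Subgroup Γ).map Γ.subtype) (by
      rintro _ ⟨x, -, rfl⟩
      exact x.2) (Q.isPGroup'.map _)
    rw [cP]
    refine Nat.card_le_card_of_injective
      (fun x : Q => (⟨g * ((x : Γ) : MulAut (Qb K)) * g⁻¹, h3 _ ⟨x, x.2, rfl⟩⟩ : autInducedBy ⊤ (Qb K))) ?_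
    intro x y hxy
    have h4 := congrArg Subtype.val hxy
    simp only [mul_left_inj, mul_right_inj] at h4
    exact Subtype.ext (Subtype.ext h4)
  have h3 : P = (Q : Subgroup Γ) := Subgroup.eq_of_le_of_card_ge hQ h1
  rw [h3]
  exact Q.not_dvd_index

/-- the kernel of the action on the classes -/
theorem ker_act {κ : MulAut (Qb K)} (h : ∀ i, act κ i = i) : ∃ α : K, α ≠ 0 ∧ ∀ g : Qb K,
    ((κ g : Qb K) : GU K).a = α * (g : GU K).a ∧ ((κ g : Qb K) : GU K).c = α * (g : GU K).c ∧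
    ((κ g : Qb K) : GU K).d = α ^ 2 * (g : GU K).d := by
  have h2 := two hK
  -- the images of the elements of `X₁`, `X₃`, `X₄`
  have k1 : ∀ t : K, ((κ (qb t 0 0 0 0) : Qb K) : GU K).c = 0 ∧ ((κ (qb t 0 0 0 0) : Qb K) : GU K).d = 0 := by
    intro t
    by_cases ht : t = 0
    · rw [ht, qb_zero, map_one]
      exact ⟨rfl, rfl⟩
    · have hT : T (qb t 0 0 0 0) := ⟨(sq_eq_one h2 _).2 (by simp), fun hc => ht hc.1⟩
      have h3 := pt_map h2 κ hT
      have h0 : pt (qb t 0 0 0 0) = some (some 0) := pt_some.2 ⟨ht, by simp⟩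
      rw [h0, h, pt_some] at h3
      have h4 := (T_map h2 κ hT).d_eq h2 (fun hc => h3.1 hc.1)
      rw [zero_mul] at h3
      rw [h3.2, mul_zero] at h4
      exact ⟨h3.2, h4⟩
  have k3 : ∀ t : K, ((κ (qb 0 t 0 0 0) : Qb K) : GU K).a = 0 ∧ ((κ (qb 0 t 0 0 0) : Qb K) : GU K).d = 0 := by
    intro t
    by_cases ht : t = 0
    · rw [ht, qb_zero, map_one]
      exact ⟨rfl, rfl⟩
    · have hT : T (qb 0 t 0 0 0) := ⟨(sq_eq_one h2 _).2 (by simp), fun hc => ht hc.2.1⟩
      have h3 := pt_map h2 κ hT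
      have h0 : pt (qb 0 t 0 0 0) = some none := pt_inf.2 ⟨rfl, ht⟩
      rw [h0, h, pt_inf] at h3
      have h4 := (T_map h2 κ hT).d_eq h2 (fun hc => h3.2 hc.2)
      rw [h3.1, zero_mul] at h4
      exact ⟨h3.1, h4⟩
  have k4 : ∀ t : K, ((κ (qb 0 0 t 0 0) : Qb K) : GU K).a = 0 ∧ ((κ (qb 0 0 t 0 0) : Qb K) : GU K).c = 0 := by
    intro t
    by_cases ht : t = 0
    · rw [ht, qb_zero, map_one]
      exact ⟨rfl, rfl⟩
    · have hT : T (qb 0 0 t 0 0) := ⟨(sq_eq_one h2 _).2 (by simp), fun hc => ht hc.2.2⟩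
      have h3 := pt_map h2 κ hT
      have h0 : pt (qb 0 0 t 0 0) = none := pt_none.2 ⟨rfl, rfl⟩
      rw [h0, h, pt_none] at h3
      exact h3
  have k5 : ∀ e f : K, Cn (κ (qb 0 0 0 e f)) := fun e f => (cn_map h2 κ _).2 ⟨rfl, rfl, rfl⟩
  have ka : ∀ g : Qb K, ((κ g : Qb K) : GU K).a = ((κ (qb (g : GU K).a 0 0 0 0) : Qb K) : GU K).a := by
    intro g
    conv_lhs => rw [qb_dec g, map_mul, map_mul, map_mul, ma, ma, ma, (k3 _).1, (k4 _).1, (k5 _ _).1]
    ring
  have kc : ∀ g : Qb K, ((κ g : Qb K) : GU K).c = ((κ (qb 0 (g : GU K).c 0 0 0) : Qb K) : GU K).c := by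
    intro g
    conv_lhs => rw [qb_dec g, map_mul, map_mul, map_mul, mc, mc, mc, (k1 _).1, (k4 _).2, (k5 _ _).2.1]
    ring
  have kd : ∀ g : Qb K, ((κ g : Qb K) : GU K).d = ((κ (qb 0 0 (g : GU K).d 0 0) : Qb K) : GU K).d := by
    intro g
    conv_lhs => rw [qb_dec g, map_mul, map_mul, map_mul, md' h2, md' h2, md' h2, (k1 _).2, (k3 _).2, (k5 _ _).2.2]
    ring
  -- the elements `(t, m t, m t²)`
  have km : ∀ m t : K, ((κ (qb t (m * t) (m * t ^ 2) 0 0) : Qb K) : GU K).c =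
      m * ((κ (qb t (m * t) (m * t ^ 2) 0 0) : Qb K) : GU K).a ∧
      ((κ (qb t (m * t) (m * t ^ 2) 0 0) : Qb K) : GU K).d =
      m * ((κ (qb t (m * t) (m * t ^ 2) 0 0) : Qb K) : GU K).a ^ 2 := by
    intro m t
    by_cases ht : t = 0
    · have e : (qb t (m * t) (m * t ^ 2) 0 0 : Qb K) = 1 := by
        rw [ht, ← qb_zero]
        congr 1 <;> ring
      rw [e, map_one, Subgroup.coe_one, GU.one_a, GU.one_c, GU.one_d]
      constructor <;> ring
    · have hT : T (qb t (m * t) (m * t ^ 2) 0 0) := by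
        refine ⟨(sq_eq_one h2 _).2 ?_, fun hc => ht hc.1⟩
        simp only [qb_a, qb_c, qb_d]
        have e : m * t ^ 2 + t * (m * t) = 0 := by linear_combination (m * t ^ 2) * h2
        rw [e, zero_mul, zero_mul]
        exact ⟨rfl, rfl⟩
      have h3 := pt_map h2 κ hT
      have h0 : pt (qb t (m * t) (m * t ^ 2) 0 0) = some (some m) := pt_some.2 ⟨ht, rfl⟩
      rw [h0, h, pt_some] at h3
      have h4 := (T_map h2 κ hT).d_eq h2 (fun hc => h3.1 hc.1)
      refine ⟨h3.2, ?_⟩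
      rw [h4, h3.2]
      ring
  -- conclusion
  set A : K → K := fun t => ((κ (qb t 0 0 0 0) : Qb K) : GU K).a with hA
  have m1 : ∀ m t : K, ((κ (qb 0 (m * t) 0 0 0) : Qb K) : GU K).c = m * A t := by
    intro m t
    have h3 := (km m t).1
    rw [kc, ka] at h3
    exact h3
  have m2 : ∀ m t : K, ((κ (qb 0 0 (m * t ^ 2) 0 0) : Qb K) : GU K).d = m * A t ^ 2 := by
    intro m t
    have h3 := (km m t).2
    rw [kd, ka] at h3
    exact h3
  have hA1 : ∀ t, A t = t * A 1 := by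
    intro t
    have h3 := m1 1 t
    have h4 := m1 t 1
    rw [one_mul, one_mul] at h3
    rw [mul_one] at h4
    rw [← h3, h4]
  refine ⟨A 1, ?_, fun g => ⟨?_, ?_, ?_⟩⟩
  · intro h0
    have h3 : Cn (κ (qb 1 0 0 0 0)) := ⟨h0, (k1 1).1, (k1 1).2⟩
    rw [cn_map h2] at h3
    exact one_ne_zero h3.1
  · rw [ka]
    show A _ = _
    rw [hA1, mul_comm]
  · rw [kc]
    have h3 := m1 (g : GU K).c 1
    rw [mul_one] at h3
    rw [h3, mul_comm]
  · rw [kd]
    have h3 := m2 (g : GU K).d 1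
    rw [one_pow, mul_one] at h3
    rw [h3, mul_comm]

/-- **`Γ` is not transitive on the `q + 2` classes** (`q` even) -/
theorem not_trans (hn : 1 ≤ n) (h : ∀ i : Option (Option K), ∃ γ ∈ Γ, act γ none = i) : False := by
  have h2 := two hK
  have := hK.fin
  have hfin : Finite (MulAut (Qb K)) :=
    Finite.of_injective (fun σ : MulAut (Qb K) => (σ : Qb K → Qb K)) DFunLike.coe_injective
  let _ : MulAction Γ (Option (Option K)) :=
    { smul := fun γ i => act (γ : MulAut (Qb K)) i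
      one_smul := fun i => act_one i
      mul_smul := fun γ δ i => act_mul h2 γ δ i }
  have h1 : MulAction.orbit Γ (none : Option (Option K)) = Set.univ := by
    rw [Set.eq_univ_iff_forall]
    intro i
    obtain ⟨γ, hγ, h3⟩ := h i
    exact ⟨⟨γ, hγ⟩, h3⟩
  have h3 := MulAction.index_stabilizer Γ (none : Option (Option K))
  rw [h1, Set.ncard_univ] at h3
  have h4 : 2 ∣ Nat.card (Option (Option K)) := by
    have e : Nat.card (Option (Option K)) = Nat.card K + 2 := by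
      have := Fintype.ofFinite K
      rw [Nat.card_eq_fintype_card, Fintype.card_option, Fintype.card_option, Nat.card_eq_fintype_card]
    rw [e, hK.card]
    exact dvd_add (dvd_pow_self 2 (by omega)) dvd_rfl
  have h5 : (autInducedBy ⊤ (Qb K)).subgroupOf Γ ≤ MulAction.stabilizer Γ (none : Option (Option K)) := by
    intro x hx
    obtain ⟨y, hy⟩ := mem_ind.1 (Subgroup.mem_subgroupOf.1 hx)
    show act (x : MulAut (Qb K)) none = none
    rw [hy, act_cj h2]
  refine odd_index hK hP ((h4.trans ?_).trans (Subgroup.index_dvd_of_le h5))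
  rw [h3]

/-- the alternatives for the orbits of `Γ` on the classes -/
theorem alternatives (hn : 1 ≤ n) : (∀ γ ∈ Γ, act γ none = none) ∨ (∀ γ ∈ Γ, act γ (some none) = some none) ∨
    (∀ γ ∈ Γ, ∀ m : K, ∃ m', act γ (some (some m)) = some (some m')) := by
  have h2 := two hK
  by_contra hcon
  push Not at hcon
  obtain ⟨⟨γ1, hγ1, h1⟩, ⟨γ3, hγ3, h3⟩, γ4, hγ4, m0, h4⟩ := hcon
  have reach : ∀ i : Option (Option K), (∃ γ ∈ Γ, ∃ m, act γ i = some (some m)) →
      ∀ m, ∃ γ ∈ Γ, act γ i = some (some m) := by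
    rintro i ⟨γ, hγ, m', h5⟩ m
    refine ⟨MulAut.conjNormal (⟨0, m - m', 0, 0, 0, 0⟩ : GU K) * γ, Γ.mul_mem (cj_mem hP _) hγ, ?_⟩
    rw [act_mul h2, h5, act_cj h2]
    simp
  have key : ∀ i j : Option (Option K), (∀ k, k = i ∨ k = j ∨ ∃ m, k = some (some m)) → (∃ γ ∈ Γ, act γ i ≠ i) →
      ∃ γ ∈ Γ, ∃ m, act γ i = some (some m) := by
    rintro i j hij ⟨γ, hγ, h5⟩
    rcases hij (act γ i) with h6 | h6 | ⟨m, h6⟩
    · exact absurd h6 h5
    · rcases hij (act γ4 (some (some m0))) with h7 | h7 | ⟨m, h7⟩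
      · exact ⟨γ4⁻¹, Γ.inv_mem hγ4, m0, act_inv h2 γ4 h7⟩
      · refine ⟨γ4⁻¹ * γ, Γ.mul_mem (Γ.inv_mem hγ4) hγ, m0, ?_⟩
        rw [act_mul h2, h6]
        exact act_inv h2 γ4 h7
      · exact absurd h7 (h4 m)
    · exact ⟨γ, hγ, m, h6⟩
  have c1 : ∀ k : Option (Option K), k = none ∨ k = some none ∨ ∃ m, k = some (some m) := by
    rintro (_ | _ | m)
    · exact Or.inl rfl
    · exact Or.inr (Or.inl rfl)
    · exact Or.inr (Or.inr ⟨m, rfl⟩)
  have c2 : ∀ k : Option (Option K), k = some none ∨ k = none ∨ ∃ m, k = some (some m) := by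
    rintro (_ | _ | m)
    · exact Or.inr (Or.inl rfl)
    · exact Or.inl rfl
    · exact Or.inr (Or.inr ⟨m, rfl⟩)
  have r1 := reach none (key none (some none) c1 ⟨γ1, hγ1, h1⟩)
  have r2 := reach (some none) (key (some none) none c2 ⟨γ3, hγ3, h3⟩)
  refine not_trans hK hP hn ?_
  rintro (_ | _ | m)
  · exact ⟨1, Γ.one_mem, act_one _⟩
  · obtain ⟨γ, hγ, h5⟩ := r1 0
    obtain ⟨δ, hδ, h6⟩ := r2 0
    refine ⟨δ⁻¹ * γ, Γ.mul_mem (Γ.inv_mem hδ) hγ, ?_⟩
    rw [act_mul h2, h5]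
    exact act_inv h2 δ h6
  · exact r1 m

end Par

end Cfsg.Agent.H294.G2.Ev

/-!
## S5211, `p = 2`, the long root parabolic, third part: `Z₃` invariant (helper294)

`q ≥ 4` even, `Z₃` invariant under `Γ`: `Γ` acts semilinearly on `Q_b / Z₃ = K²`, contains `SL₂(K)`, `HasTor`, and
`Full D → Γ = Gen IsWb D` (`lb_of_inv`).
-/

namespace Cfsg.Agent.H294.G2.Ev

open Cfsg Cfsg.FusionSystem Cfsg.Agent.H756.PU Cfsg.Agent.H779.G2
open Cfsg.Agent.H428.GT (qb gb qext ma mc mem_ind inn_le_ind inn_of_b qb_a qb_c qb_d qb_e qb_f)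

universe u

variable {K : Type u} [Field K]

/-- semilinear data of `γ` on `Q_b / Z₂` -/
structure Sl (γ : MulAut (Qb K)) (τ : K ≃+* K) (p q r s : K) : Prop where
  a : ∀ g : Qb K, ((γ g : Qb K) : GU K).a = p * τ (g : GU K).a + q * τ (g : GU K).c
  c : ∀ g : Qb K, ((γ g : Qb K) : GU K).c = r * τ (g : GU K).a + s * τ (g : GU K).c
  d : ∀ g : Qb K, ((γ g : Qb K) : GU K).d + ((γ g : Qb K) : GU K).a * ((γ g : Qb K) : GU K).c =
    (p * s + q * r) * τ ((g : GU K).d + (g : GU K).a * (g : GU K).c)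
  ne : p * s + q * r ≠ 0

theorem Sl.congr {γ : MulAut (Qb K)} {τ τ' : K ≃+* K} {p q r s p' q' r' s' : K} (h : Sl γ τ p q r s) (ht : τ = τ')
    (hp : p = p') (hq : q = q') (hr : r = r') (hs : s = s') : Sl γ τ' p' q' r' s' := by
  subst ht hp hq hr hs
  exact h

section char2

variable (h2 : (2 : K) = 0)

include h2

theorem Sl.mul {γ γ' : MulAut (Qb K)} {τ τ' : K ≃+* K} {p q r s p' q' r' s' : K} (h : Sl γ τ p q r s)
    (h' : Sl γ' τ' p' q' r' s') : Sl (γ * γ') (τ'.trans τ) (p * τ p' + q * τ r') (p * τ q' + q * τ s')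
      (r * τ p' + s * τ r') (r * τ q' + s * τ s') where
  a g := by
    rw [MulAut.mul_apply, h.a, h'.a, h'.c]
    simp only [map_add, map_mul, RingEquiv.coe_trans, Function.comp_apply]
    ring
  c g := by
    rw [MulAut.mul_apply, h.c, h'.a, h'.c]
    simp only [map_add, map_mul, RingEquiv.coe_trans, Function.comp_apply]
    ring
  d g := by
    rw [MulAut.mul_apply, h.d, h'.d]
    simp only [map_add, map_mul, RingEquiv.coe_trans, Function.comp_apply]
    linear_combination (-(p * r * τ p' * τ q' + q * s * τ r' * τ s') * (τ (τ' (g : GU K).d) + τ (τ' (g : GU K).a) *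
      τ (τ' (g : GU K).c))) * h2
  ne := by
    have e : (p * τ p' + q * τ r') * (r * τ q' + s * τ s') + (p * τ q' + q * τ s') * (r * τ p' + s * τ r') =
        (p * s + q * r) * τ (p' * s' + q' * r') := by
      simp only [map_add, map_mul]
      linear_combination (p * r * τ p' * τ q' + q * s * τ r' * τ s') * h2
    rw [e]
    exact mul_ne_zero h.ne ((map_ne_zero_iff _ τ.injective).2 h'.ne)

theorem sl_cj (x : GU K) : Sl (MulAut.conjNormal x : MulAut (Qb K)) (RingEquiv.refl K) 1 0 x.b 1 where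
  a g := by rw [cj_a]; simp
  c g := by rw [cj_c]; simp only [RingEquiv.refl_apply]; ring
  d g := by
    rw [cj_a, cj_c, cj_d h2]
    simp only [RingEquiv.refl_apply]
    linear_combination (x.b * (g : GU K).a ^ 2) * h2
  ne := by simp

omit h2 in
/-- the data are unique -/
theorem Sl.uniq {γ : MulAut (Qb K)} {τ τ' : K ≃+* K} {p q r s p' q' r' s' : K} (h : Sl γ τ p q r s)
    (h' : Sl γ τ' p' q' r' s') : τ = τ' ∧ p = p' ∧ q = q' ∧ r = r' ∧ s = s' := by
  have hp : p = p' := by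
    have h1 := h.a (qb 1 0 0 0 0)
    rw [h'.a] at h1
    simp only [qb_a, qb_c, map_one, map_zero, mul_one, mul_zero, add_zero] at h1
    exact h1.symm
  have hq : q = q' := by
    have h1 := h.a (qb 0 1 0 0 0)
    rw [h'.a] at h1
    simp only [qb_a, qb_c, map_one, map_zero, mul_one, mul_zero, zero_add] at h1
    exact h1.symm
  have hr : r = r' := by
    have h1 := h.c (qb 1 0 0 0 0)
    rw [h'.c] at h1
    simp only [qb_a, qb_c, map_one, map_zero, mul_one, mul_zero, add_zero] at h1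
    exact h1.symm
  have hs : s = s' := by
    have h1 := h.c (qb 0 1 0 0 0)
    rw [h'.c] at h1
    simp only [qb_a, qb_c, map_one, map_zero, mul_one, mul_zero, zero_add] at h1
    exact h1.symm
  refine ⟨?_, hp, hq, hr, hs⟩
  ext t
  have h1 := h.d (qb 0 0 t 0 0)
  rw [h'.d, hp, hq, hr, hs] at h1
  simp only [qb_a, qb_c, qb_d, mul_zero, add_zero] at h1
  have hne := h'.ne
  exact (mul_left_cancel₀ hne h1).symm

/-- elements with the same action on `Q_b / Z₂` -/
theorem tz_of {γ γ' : MulAut (Qb K)} (h : ∀ g : Qb K, ((γ g : Qb K) : GU K).a = ((γ' g : Qb K) : GU K).a ∧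
    ((γ g : Qb K) : GU K).c = ((γ' g : Qb K) : GU K).c ∧ ((γ g : Qb K) : GU K).d = ((γ' g : Qb K) : GU K).d) :
    Tz (γ * γ'⁻¹) := by
  intro g
  have h1 := h (γ'⁻¹ g)
  rw [MulAut.apply_inv_self] at h1
  exact h1

theorem tz_of_sl {γ γ' : MulAut (Qb K)} {τ : K ≃+* K} {p q r s : K} (h : Sl γ τ p q r s) (h' : Sl γ' τ p q r s) :
    Tz (γ * γ'⁻¹) := by
  refine tz_of h2 fun g => ?_
  have h3 : ((γ g : Qb K) : GU K).a = ((γ' g : Qb K) : GU K).a := by rw [h.a, h'.a]
  have h4 : ((γ g : Qb K) : GU K).c = ((γ' g : Qb K) : GU K).c := by rw [h.c, h'.c]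
  refine ⟨h3, h4, ?_⟩
  have h5 := h.d g
  rw [← h'.d g, h3, h4] at h5
  exact add_right_cancel h5

/-- the elements fixing the class of `Z₃` are semilinear -/
theorem exists_sl [Finite K] {γ : MulAut (Qb K)} (h0 : act γ none = none) : ∃ (τ : K ≃+* K) (p q r s : K),
    Sl γ τ p q r s := by
  have k4 : ∀ t : K, ((γ (qb 0 0 t 0 0) : Qb K) : GU K).a = 0 ∧ ((γ (qb 0 0 t 0 0) : Qb K) : GU K).c = 0 := by
    intro t
    by_cases ht : t = 0
    · rw [ht, qb_zero, map_one]
      exact ⟨rfl, rfl⟩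
    · have hT : T (qb 0 0 t 0 0) := ⟨(sq_eq_one h2 _).2 (by simp), fun hc => ht hc.2.2⟩
      have h3 := pt_map h2 γ hT
      have h1 : pt (qb 0 0 t 0 0) = none := pt_none.2 ⟨rfl, rfl⟩
      rw [h1, h0, pt_none] at h3
      exact h3
  have k5 : ∀ e f : K, Cn (γ (qb 0 0 0 e f)) := fun e f => (cn_map h2 γ _).2 ⟨rfl, rfl, rfl⟩
  -- involutions `(a, c, ac)`
  have kd : ∀ a c : K, ((γ (qb a c (a * c) 0 0) : Qb K) : GU K).d =
      ((γ (qb a c (a * c) 0 0) : Qb K) : GU K).a * ((γ (qb a c (a * c) 0 0) : Qb K) : GU K).c := by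
    intro a c
    by_cases hac : a = 0 ∧ c = 0
    · obtain ⟨rfl, rfl⟩ := hac
      rw [mul_zero, qb_zero, map_one, Subgroup.coe_one, GU.one_a, GU.one_c, GU.one_d, mul_zero]
    · have hT : T (qb a c (a * c) 0 0) := by
        refine ⟨(sq_eq_one h2 _).2 ?_, fun hc => hac ⟨hc.1, hc.2.1⟩⟩
        simp only [qb_a, qb_c, qb_d]
        have e : a * c + a * c = 0 := by linear_combination (a * c) * h2
        rw [e, zero_mul, zero_mul]
        exact ⟨rfl, rfl⟩
      refine (T_map h2 γ hT).d_eq h2 fun hc => ?_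
      have h3 := pt_map h2 γ hT
      rw [pt_none.2 hc, ← h0] at h3
      have h4 := act_inj h2 γ h3
      exact hac (pt_none.1 h4.symm)
  set f1 : K → K := fun t => ((γ (qb t 0 0 0 0) : Qb K) : GU K).a with hf1
  set g1 : K → K := fun t => ((γ (qb t 0 0 0 0) : Qb K) : GU K).c with hg1
  set f3 : K → K := fun t => ((γ (qb 0 t 0 0 0) : Qb K) : GU K).a with hf3
  set g3 : K → K := fun t => ((γ (qb 0 t 0 0 0) : Qb K) : GU K).c with hg3
  set E : K → K := fun t => ((γ (qb 0 0 t 0 0) : Qb K) : GU K).d with hE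
  have ad1 : ∀ t t' : K, (qb (t + t') 0 0 0 0 : Qb K) = qb t 0 0 0 0 * qb t' 0 0 0 0 := by
    intro t t'
    rw [mul_qb]
    congr 1 <;> ring
  have ad3 : ∀ t t' : K, (qb 0 (t + t') 0 0 0 : Qb K) = qb 0 t 0 0 0 * qb 0 t' 0 0 0 := by
    intro t t'
    rw [mul_qb]
    congr 1 <;> ring
  have ad4 : ∀ t t' : K, (qb 0 0 (t + t') 0 0 : Qb K) = qb 0 0 t 0 0 * qb 0 0 t' 0 0 := by
    intro t t'
    rw [mul_qb]
    congr 1 <;> ring
  have d1 : ∀ t, ((γ (qb t 0 0 0 0) : Qb K) : GU K).d = f1 t * g1 t := by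
    intro t
    have := kd t 0
    rwa [mul_zero] at this
  have d3 : ∀ t, ((γ (qb 0 t 0 0 0) : Qb K) : GU K).d = f3 t * g3 t := by
    intro t
    have := kd 0 t
    rwa [zero_mul] at this
  have ka : ∀ g : Qb K, ((γ g : Qb K) : GU K).a = f1 (g : GU K).a + f3 (g : GU K).c := by
    intro g
    conv_lhs => rw [qb_dec g, map_mul, map_mul, map_mul, ma, ma, ma, (k4 _).1, (k5 _ _).1]
    ring
  have kc : ∀ g : Qb K, ((γ g : Qb K) : GU K).c = g1 (g : GU K).a + g3 (g : GU K).c := by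
    intro g
    conv_lhs => rw [qb_dec g, map_mul, map_mul, map_mul, mc, mc, mc, (k4 _).2, (k5 _ _).2.1]
    ring
  have kdd : ∀ g : Qb K, ((γ g : Qb K) : GU K).d = f1 (g : GU K).a * g1 (g : GU K).a +
      f3 (g : GU K).c * g3 (g : GU K).c + E (g : GU K).d := by
    intro g
    conv_lhs => rw [qb_dec g, map_mul, map_mul, map_mul, md' h2, md' h2, md' h2, d1, d3, (k5 _ _).2.2]
    ring
  have K1 : ∀ a c : K, E (a * c) = f1 a * g3 c + f3 c * g1 a := by
    intro a c
    have h1 := kd a c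
    rw [ka, kc, kdd] at h1
    simp only [qb_a, qb_c, qb_d] at h1
    linear_combination h1
  have K2 : ∀ a a' : K, f1 a * g1 a' + f1 a' * g1 a = 0 := by
    intro a a'
    have h1 := congrArg (fun x => ((γ x : Qb K) : GU K).d) (ad1 a a')
    simp only [map_mul, md' h2, d1] at h1
    have h3 : f1 (a + a') = f1 a + f1 a' := by
      simp only [hf1]
      rw [ad1, map_mul, ma]
    have h4 : g1 (a + a') = g1 a + g1 a' := by
      simp only [hg1]
      rw [ad1, map_mul, mc]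
    rw [h3, h4] at h1
    linear_combination h1
  have K3 : ∀ a a' : K, f3 a * g3 a' + f3 a' * g3 a = 0 := by
    intro a a'
    have h1 := congrArg (fun x => ((γ x : Qb K) : GU K).d) (ad3 a a')
    simp only [map_mul, md' h2, d3] at h1
    have h3 : f3 (a + a') = f3 a + f3 a' := by
      simp only [hf3]
      rw [ad3, map_mul, ma]
    have h4 : g3 (a + a') = g3 a + g3 a' := by
      simp only [hg3]
      rw [ad3, map_mul, mc]
    rw [h3, h4] at h1
    linear_combination h1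
  have Ea : ∀ a a' : K, E (a + a') = E a + E a' := by
    intro a a'
    simp only [hE]
    rw [ad4, map_mul, md' h2]
  have hΔ : E 1 = f1 1 * g3 1 + f3 1 * g1 1 := by
    have := K1 1 1
    rwa [mul_one] at this
  have hΔ0 : E 1 ≠ 0 := by
    intro h1
    have h3 : Cn (γ (qb 0 0 1 0 0)) := ⟨(k4 1).1, (k4 1).2, h1⟩
    rw [cn_map h2] at h3
    exact one_ne_zero h3.2.2
  have F1 : ∀ a, f1 a * E 1 = f1 1 * E a := by
    intro a
    have h1 := K1 a 1
    rw [mul_one] at h1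
    rw [hΔ, h1]
    linear_combination (-f3 1) * K2 a 1 + (f3 1 * f1 a * g1 1) * h2
  have G1 : ∀ a, g1 a * E 1 = g1 1 * E a := by
    intro a
    have h1 := K1 a 1
    rw [mul_one] at h1
    rw [hΔ, h1]
    linear_combination (-g3 1) * K2 a 1 + (g3 1 * f1 1 * g1 a) * h2
  have F3 : ∀ a, f3 a * E 1 = f3 1 * E a := by
    intro a
    have h1 := K1 1 a
    rw [one_mul] at h1
    rw [hΔ, h1]
    linear_combination (-f1 1) * K3 a 1 + (f1 1 * f3 a * g3 1) * h2
  have G3 : ∀ a, g3 a * E 1 = g3 1 * E a := by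
    intro a
    have h1 := K1 1 a
    rw [one_mul] at h1
    rw [hΔ, h1]
    linear_combination (-g1 1) * K3 a 1 + (g1 1 * f3 1 * g3 a) * h2
  have t1 : ∀ a, f1 a = f1 1 * (E a / E 1) := fun a => by rw [← mul_div_assoc, eq_div_iff hΔ0, F1]
  have t2 : ∀ a, g1 a = g1 1 * (E a / E 1) := fun a => by rw [← mul_div_assoc, eq_div_iff hΔ0, G1]
  have t3 : ∀ a, f3 a = f3 1 * (E a / E 1) := fun a => by rw [← mul_div_assoc, eq_div_iff hΔ0, F3]
  have t4 : ∀ a, g3 a = g3 1 * (E a / E 1) := fun a => by rw [← mul_div_assoc, eq_div_iff hΔ0, G3]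
  have E0 : E 0 = 0 := by
    have := Ea 0 0
    rw [add_zero] at this
    linear_combination -this
  let σ : K →+* K :=
    { toFun := fun t => E t / E 1
      map_one' := div_self hΔ0
      map_mul' := fun a c => by
        rw [K1 a c, t1 a, t4 c, t3 c, t2 a, div_eq_iff hΔ0]
        have e : f1 1 * (E a / E 1) * (g3 1 * (E c / E 1)) + f3 1 * (E c / E 1) * (g1 1 * (E a / E 1)) =
          (f1 1 * g3 1 + f3 1 * g1 1) * (E a / E 1 * (E c / E 1)) := by ring
        rw [e, ← hΔ]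
        ring
      map_zero' := by rw [E0, zero_div]
      map_add' := fun a c => by rw [Ea, add_div] }
  have hσ : Function.Bijective σ := Finite.injective_iff_bijective.1 σ.injective
  refine ⟨RingEquiv.ofBijective σ hσ, f1 1, f3 1, g1 1, g3 1, ?_, ?_, ?_, ?_⟩
  · intro g
    rw [ka, t1, t3]
    rfl
  · intro g
    rw [kc, t2, t4]
    rfl
  · intro g
    rw [← hΔ]
    have e : E 1 * (RingEquiv.ofBijective σ hσ) ((g : GU K).d + (g : GU K).a * (g : GU K).c) =
        E ((g : GU K).d + (g : GU K).a * (g : GU K).c) := by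
      show E 1 * (_ / E 1) = _
      rw [mul_div_cancel₀ _ hΔ0]
    rw [e, Ea, K1, ka, kc, kdd]
    linear_combination (f1 (g : GU K).a * g1 (g : GU K).a + f3 (g : GU K).c * g3 (g : GU K).c) * h2
  · rw [← hΔ]
    exact hΔ0

end char2

/-! ### `Γ` with `Z₃` invariant -/

section Par

variable {n : ℕ} (hK : HypG K 2 n) {Γ : Subgroup (MulAut (Qb K))} {D : Subgroup (MulAut (GU K))}
  (hP : Par 2 (Qb K) Γ D)

include hK hP

/-- the stabilizer of the line `{a = 0}` normalizes `Aut_S(Q_b)` -/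
theorem normAut_of_sl {γ : MulAut (Qb K)} (hγ : γ ∈ Γ) {τ : K ≃+* K} {p r s : K} (h : Sl γ τ p 0 r s) :
    NormAut ⊤ γ := by
  have h2 := two hK
  have hp : p ≠ 0 := by
    intro h0
    have := h.ne
    rw [h0] at this
    simp at this
  refine normAut_of hK hP hγ fun x => ⟨⟨0, s * τ x.b / p, 0, 0, 0, 0⟩, ?_⟩
  have e : γ * MulAut.conjNormal x * γ⁻¹ * (MulAut.conjNormal (⟨0, s * τ x.b / p, 0, 0, 0, 0⟩ : GU K))⁻¹ =
      (γ * MulAut.conjNormal x) * (MulAut.conjNormal (⟨0, s * τ x.b / p, 0, 0, 0, 0⟩ : GU K) * γ)⁻¹ := by group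
  rw [e]
  refine tz_of_sl h2 (h.mul h2 (sl_cj h2 x)) (((sl_cj h2 _).mul h2 h).congr ?_ ?_ ?_ ?_ ?_)
  · ext; simp
  · simp
  · simp
  · simp only [map_one, map_zero, RingEquiv.refl_apply]
    rw [div_mul_cancel₀ _ hp]
    ring
  · simp

/-- elements of `Γ` normalizing `Aut_S(Q_b)`: conjugation times torus and field automorphism -/
theorem norm_tor {γ : MulAut (Qb K)} (hγ : γ ∈ Γ) (hn : NormAut ⊤ γ) : ∃ (x : GU K) (d : MulAut (GU K)) (s t : K)
    (τ : K ≃+* K), d ∈ D ∧ IsTor d s t τ ∧ (∀ e : Qb K, ((γ e : Qb K) : GU K) = x * d e * x⁻¹) ∧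
    Sl γ τ s 0 (x.b * s) (s * t) := by
  have h2 := two hK
  have := hK.fin
  obtain ⟨x, d, hd, hx⟩ := hP.norm γ hγ hn
  rcases Cfsg.Agent.H103.GT.mem_TT (hP.D_le hd) with ⟨s, t, τ, h⟩ | ⟨s, t, τ, α', ρ, -, hρ, -⟩
  · have hb : ∀ e : Qb K, (d e).b = 0 := fun e => by rw [h.b, gb, map_zero, mul_zero]
    have ea : ∀ e : Qb K, ((γ e : Qb K) : GU K).a = s * τ (e : GU K).a := fun e => by
      rw [hx, GU.mul_a, GU.mul_a, GU.inv_a, h.a]
      ring
    have ec : ∀ e : Qb K, ((γ e : Qb K) : GU K).c = s * t * τ (e : GU K).c + x.b * (s * τ (e : GU K).a) := fun e => by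
      rw [hx]
      simp only [GU.mul_c, GU.mul_b, GU.inv_a, GU.inv_c, hb, h.a, h.c]
      ring
    have ed : ∀ e : Qb K, ((γ e : Qb K) : GU K).d = s ^ 2 * t * τ (e : GU K).d + x.b * (s * τ (e : GU K).a) ^ 2 :=
      fun e => by
      rw [hx]
      simp only [GU.mul_d, GU.mul_c, GU.mul_b, GU.inv_a, GU.inv_c, GU.inv_b, GU.inv_d, hb, h.a, h.c, h.d]
      linear_combination (-x.a * (s * t * τ (e : GU K).c) - x.a * x.b * (s * τ (e : GU K).a) +
        x.c * (s * τ (e : GU K).a)) * h2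
    refine ⟨x, d, s, t, τ, hd, h, hx, ?_, ?_, ?_, ?_⟩
    · intro g
      rw [ea]
      ring
    · intro g
      rw [ec]
      ring
    · intro g
      rw [ea, ec, ed, map_add, map_mul]
      linear_combination (x.b * (s * τ (g : GU K).a) ^ 2) * h2
    · rw [zero_mul, add_zero]
      exact mul_ne_zero h.ne1 (mul_ne_zero h.ne1 h.ne2)
  · exact absurd hρ.three (three_ne' h2)

variable (hZ : ∀ γ ∈ Γ, act γ none = none)

include hZ

/-- some element of `Γ` moves the line `{a = 0}` -/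
theorem exists_move : ∃ γ ∈ Γ, ∃ (τ : K ≃+* K) (p q r s : K), Sl γ τ p q r s ∧ q ≠ 0 := by
  have h2 := two hK
  have := hK.fin
  by_contra hcon
  push Not at hcon
  refine hP.nn fun γ hγ => ?_
  obtain ⟨τ, p, q, r, s, h⟩ := exists_sl h2 (hZ γ hγ)
  have hq := hcon γ hγ τ p q r s h
  subst hq
  exact normAut_of_sl hK hP hγ h

/-- the opposite transvections -/
theorem exists_opp (t : K) : ∃ δ ∈ Γ, Sl δ (RingEquiv.refl K) 1 t 0 1 := by
  have h2 := two hK
  obtain ⟨γ0, hγ0, τ, p, q, r, s, h, hq⟩ := exists_move hK hP hZ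
  have hΔ := h.ne
  set r1 : K := (p * s + q * r) / q with hr1
  have hr0 : r1 ≠ 0 := div_ne_zero hΔ hq
  have hγ1 : Sl (MulAut.conjNormal (⟨0, s / q, 0, 0, 0, 0⟩ : GU K) * γ0) τ p q r1 0 := by
    refine ((sl_cj h2 _).mul h2 h).congr ?_ ?_ ?_ ?_ ?_
    · ext; simp
    · simp
    · simp
    · simp only [RingEquiv.refl_apply]
      rw [hr1]
      field_simp
    · simp only [RingEquiv.refl_apply]
      field_simp
      linear_combination s * h2
  have hm : MulAut.conjNormal (⟨0, s / q, 0, 0, 0, 0⟩ : GU K) * γ0 ∈ Γ := Γ.mul_mem (cj_mem hP _) hγ0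
  generalize MulAut.conjNormal (⟨0, s / q, 0, 0, 0, 0⟩ : GU K) * γ0 = γ1 at hγ1 hm
  set u : K := τ.symm (t * r1 / q) with hu
  have hτu : τ u = t * r1 / q := τ.apply_symm_apply _
  set c : MulAut (Qb K) := MulAut.conjNormal (⟨0, u, 0, 0, 0, 0⟩ : GU K) with hc
  have hcs := sl_cj h2 (⟨0, u, 0, 0, 0, 0⟩ : GU K)
  rw [← hc] at hcs
  refine ⟨γ1 * c * γ1⁻¹, Γ.mul_mem (Γ.mul_mem hm (cj_mem hP _)) (Γ.inv_mem hm), ?_, ?_, ?_, ?_⟩
  · intro g
    obtain ⟨k, rfl⟩ := γ1.surjective g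
    have e : (γ1 * c * γ1⁻¹) (γ1 k) = γ1 (c k) := by
      rw [MulAut.mul_apply, MulAut.mul_apply, MulAut.inv_apply_self]
    rw [e, hγ1.a, hcs.a, hcs.c, hγ1.a, hγ1.c]
    simp only [RingEquiv.refl_apply, map_add, map_mul, map_one, map_zero, hτu]
    field_simp
    ring
  · intro g
    obtain ⟨k, rfl⟩ := γ1.surjective g
    have e : (γ1 * c * γ1⁻¹) (γ1 k) = γ1 (c k) := by
      rw [MulAut.mul_apply, MulAut.mul_apply, MulAut.inv_apply_self]
    rw [e, hγ1.c, hcs.a, hcs.c, hγ1.a, hγ1.c]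
    simp only [RingEquiv.refl_apply, map_add, map_mul, map_one, map_zero]
    ring
  · intro g
    obtain ⟨k, rfl⟩ := γ1.surjective g
    have e : (γ1 * c * γ1⁻¹) (γ1 k) = γ1 (c k) := by
      rw [MulAut.mul_apply, MulAut.mul_apply, MulAut.inv_apply_self]
    rw [e, hγ1.d, hcs.d, hγ1.d]
    simp only [RingEquiv.refl_apply, map_add, map_mul, map_one, map_zero]
    ring
  · simp

/-- the Weyl element modulo `Z₂` -/
theorem exists_w : ∃ δ ∈ Γ, Sl δ (RingEquiv.refl K) 0 1 1 0 := by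
  have h2 := two hK
  obtain ⟨δ, hδ, h⟩ := exists_opp hK hP hZ 1
  have hc := sl_cj h2 (⟨0, 1, 0, 0, 0, 0⟩ : GU K)
  refine ⟨_, Γ.mul_mem (Γ.mul_mem (cj_mem hP ⟨0, 1, 0, 0, 0, 0⟩) hδ) (cj_mem hP ⟨0, 1, 0, 0, 0, 0⟩),
    ((hc.mul h2 h).mul h2 hc).congr ?_ ?_ ?_ ?_ ?_⟩
  · ext; simp
  · simp only [map_zero, map_one, RingEquiv.refl_apply, RingEquiv.coe_trans, Function.comp_apply]
    linear_combination h2
  · simp only [map_zero, map_one, RingEquiv.refl_apply, RingEquiv.coe_trans, Function.comp_apply]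
    ring
  · simp only [map_zero, map_one, map_add, map_mul, RingEquiv.refl_apply, RingEquiv.coe_trans, Function.comp_apply]
    linear_combination h2
  · simp only [map_zero, map_one, map_add, map_mul, RingEquiv.refl_apply, RingEquiv.coe_trans, Function.comp_apply]
    linear_combination h2

/-- the torus of `SL₂(K)` modulo `Z₂` -/
theorem exists_diag {t : K} (ht : t ≠ 0) : ∃ δ ∈ Γ, Sl δ (RingEquiv.refl K) t⁻¹ 0 0 t := by
  have h2 := two hK
  obtain ⟨δ, hδ, h⟩ := exists_opp hK hP hZ t⁻¹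
  obtain ⟨w, hw, h'⟩ := exists_w hK hP hZ
  have hc := sl_cj h2 (⟨0, t, 0, 0, 0, 0⟩ : GU K)
  refine ⟨_, Γ.mul_mem (Γ.mul_mem (Γ.mul_mem (cj_mem hP ⟨0, t, 0, 0, 0, 0⟩) hδ) (cj_mem hP ⟨0, t, 0, 0, 0, 0⟩)) hw,
    (((hc.mul h2 h).mul h2 hc).mul h2 h').congr ?_ ?_ ?_ ?_ ?_⟩
  · ext; simp
  · simp only [map_zero, map_one, map_add, map_mul, RingEquiv.refl_apply, RingEquiv.coe_trans, Function.comp_apply]
    ring
  · simp only [map_zero, map_one, map_add, map_mul, RingEquiv.refl_apply, RingEquiv.coe_trans, Function.comp_apply]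
    field_simp
    linear_combination t * h2
  · simp only [map_zero, map_one, map_add, map_mul, RingEquiv.refl_apply, RingEquiv.coe_trans, Function.comp_apply]
    field_simp
    linear_combination h2
  · simp only [map_zero, map_one, map_add, map_mul, RingEquiv.refl_apply, RingEquiv.coe_trans, Function.comp_apply]
    field_simp
    linear_combination (t) * h2

theorem hasTor : HasTor D (fun t => t⁻¹) (fun t => t ^ 2) := by
  have h2 := two hK
  intro t ht α hα
  obtain ⟨δ, hδ, h⟩ := exists_diag hK hP hZ ht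
  obtain ⟨x, d, s, t', τ, hd, hdt, -, hs⟩ := norm_tor hK hP hδ (normAut_of_sl hK hP hδ h)
  obtain ⟨h1, h3, -, -, h5⟩ := h.uniq hs
  subst h1
  have h6 : t' = t ^ 2 := by
    rw [← h3] at h5
    field_simp at h5
    rw [← h5]
  rw [← h3, h6] at hdt
  have h7 : α = d := Cfsg.Agent.H103.GT.ext_aut fun g => ⟨by rw [hα.a, hdt.a], by rw [hα.b, hdt.b], by rw [hα.c, hdt.c],
    by rw [hα.d, hdt.d], by rw [hα.e, hdt.e], by rw [hα.f, hdt.f]⟩
  rw [h7]
  exact hd

end Par

end Cfsg.Agent.H294.G2.Ev
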