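import Cfsg.Agent.H294.G2.Ev

/-!
# S5211, `p = 2`, the long root parabolic, fourth part: the Weyl element (helper294)

`q ≥ 4` even, `Z₃` invariant under `Γ`, `D` contains the whole torus: `Γ = Gen IsWb D` (`eq_gen`).
-/

set_option autoImplicit false
set_option linter.unusedSectionVars false

namespace Cfsg.Agent.H294.G2.Ev

open Cfsg Cfsg.FusionSystem Cfsg.Agent.H756.PU Cfsg.Agent.H779.G2
open Cfsg.Agent.H428.GT (qb gb qext ma mc mem_ind inn_le_ind inn_of_b qb_a qb_c qb_d qb_e qb_f)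

universe u

variable {K : Type u} [Field K]

/-- a torus element on `Q_b` -/
structure Tb (ρ : MulAut (Qb K)) (s t : K) : Prop where
  ne1 : s ≠ 0
  ne2 : t ≠ 0
  a : ∀ g : Qb K, ((ρ g : Qb K) : GU K).a = s * (g : GU K).a
  c : ∀ g : Qb K, ((ρ g : Qb K) : GU K).c = s * t * (g : GU K).c
  d : ∀ g : Qb K, ((ρ g : Qb K) : GU K).d = s ^ 2 * t * (g : GU K).d
  e : ∀ g : Qb K, ((ρ g : Qb K) : GU K).e = s ^ 3 * t * (g : GU K).e
  f : ∀ g : Qb K, ((ρ g : Qb K) : GU K).f = s ^ 3 * t ^ 2 * (g : GU K).f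

theorem tb_one : Tb (1 : MulAut (Qb K)) 1 1 :=
  ⟨one_ne_zero, one_ne_zero, fun g => by simp, fun g => by simp, fun g => by simp, fun g => by simp, fun g => by simp⟩

theorem Tb.mul {ρ ρ' : MulAut (Qb K)} {s t s' t' : K} (h : Tb ρ s t) (h' : Tb ρ' s' t') :
    Tb (ρ * ρ') (s * s') (t * t') where
  ne1 := mul_ne_zero h.ne1 h'.ne1
  ne2 := mul_ne_zero h.ne2 h'.ne2
  a g := by rw [MulAut.mul_apply, h.a, h'.a]; ring
  c g := by rw [MulAut.mul_apply, h.c, h'.c]; ring
  d g := by rw [MulAut.mul_apply, h.d, h'.d]; ring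
  e g := by rw [MulAut.mul_apply, h.e, h'.e]; ring
  f g := by rw [MulAut.mul_apply, h.f, h'.f]; ring

theorem Tb.inv {ρ : MulAut (Qb K)} {s t : K} (h : Tb ρ s t) : Tb ρ⁻¹ s⁻¹ t⁻¹ := by
  have hs := h.ne1
  have ht := h.ne2
  have key : ∀ g : Qb K, ρ (ρ⁻¹ g) = g := fun g => MulAut.apply_inv_self _ ρ g
  refine ⟨inv_ne_zero hs, inv_ne_zero ht, fun g => ?_, fun g => ?_, fun g => ?_, fun g => ?_, fun g => ?_⟩
  · have h1 := h.a (ρ⁻¹ g)
    rw [key] at h1
    rw [h1]
    field_simp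
  · have h1 := h.c (ρ⁻¹ g)
    rw [key] at h1
    rw [h1]
    field_simp
  · have h1 := h.d (ρ⁻¹ g)
    rw [key] at h1
    rw [h1]
    field_simp
  · have h1 := h.e (ρ⁻¹ g)
    rw [key] at h1
    rw [h1]
    field_simp
  · have h1 := h.f (ρ⁻¹ g)
    rw [key] at h1
    rw [h1]
    field_simp

theorem Tb.eq_one {ρ : MulAut (Qb K)} {s t : K} (h : Tb ρ s t) (hs : s = 1) (ht : t = 1) : ρ = 1 := by
  subst hs ht
  ext1 g
  refine qext ?_ ?_ ?_ ?_ ?_
  · rw [h.a]; simp
  · rw [h.c]; simp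
  · rw [h.d]; simp
  · rw [h.e]; simp
  · rw [h.f]; simp

theorem Tb.pow {ρ : MulAut (Qb K)} {s t : K} (h : Tb ρ s t) (k : ℕ) : Tb (ρ ^ k) (s ^ k) (t ^ k) := by
  induction k with
  | zero => simpa using tb_one
  | succ k ih =>
    rw [pow_succ, pow_succ, pow_succ]
    exact ih.mul h

variable (K) in
/-- the torus -/
def TB : Subgroup (MulAut (Qb K)) where
  carrier := {ρ | ∃ s t, Tb ρ s t}
  one_mem' := ⟨1, 1, tb_one⟩
  mul_mem' := by
    rintro ρ ρ' ⟨s, t, h⟩ ⟨s', t', h'⟩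
    exact ⟨_, _, h.mul h'⟩
  inv_mem' := by
    rintro ρ ⟨s, t, h⟩
    exact ⟨_, _, h.inv⟩

/-- restriction to `Q_b` -/
theorem exists_res {α : MulAut (GU K)} {s t : K} (h : IsTor α s t (RingEquiv.refl K)) :
    ∃ ρ : MulAut (Qb K), IsR α ρ ∧ Tb ρ s t := by
  have hb : ∀ g : GU K, α g ∈ Qb K ↔ g ∈ Qb K := by
    intro g
    show (α g).b = 0 ↔ g.b = 0
    rw [h.b]
    simp [h.ne2]
  let ρ : MulAut (Qb K) :=
    { toFun := fun e => ⟨α (e : GU K), (hb e).2 e.2⟩
      invFun := fun e => ⟨α⁻¹ (e : GU K), (hb _).1 (by rw [MulAut.apply_inv_self]; exact e.2)⟩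
      left_inv := fun e => Subtype.ext (MulAut.inv_apply_self _ α (e : GU K))
      right_inv := fun e => Subtype.ext (MulAut.apply_inv_self _ α (e : GU K))
      map_mul' := fun e e' => Subtype.ext (map_mul α (e : GU K) e') }
  refine ⟨ρ, fun e => rfl, h.ne1, h.ne2, fun g => ?_, fun g => ?_, fun g => ?_, fun g => ?_, fun g => ?_⟩
  · show (α (g : GU K)).a = _; rw [h.a]; rfl
  · show (α (g : GU K)).c = _; rw [h.c]; rfl
  · show (α (g : GU K)).d = _; rw [h.d]; rfl
  · show (α (g : GU K)).e = _; rw [h.e]; rfl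
  · show (α (g : GU K)).f = _; rw [h.f]; rfl

theorem exists_tb {s t : K} (hs : s ≠ 0) (ht : t ≠ 0) : ∃ ρ : MulAut (Qb K), Tb ρ s t := by
  obtain ⟨α, hα⟩ := Cfsg.Agent.H103.GT.exists_tor (RingEquiv.refl K) hs ht
  obtain ⟨ρ, -, h⟩ := exists_res hα
  exact ⟨ρ, h⟩

/-- Schur-Zassenhaus: the conjugating element in the normal subgroup -/
theorem sz_in' {G : Type u} [Group G] [Finite G] (R D T : Subgroup G) [R.Normal] (hs : Group.IsSolvable R)
    (hcop : (Nat.card D).Coprime (Nat.card R)) (hRT : R ⊓ T = ⊥)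
    (hall : ∀ x ∈ D, ∃ t ∈ T, x * t⁻¹ ∈ R) : ∃ r ∈ R, ∀ d ∈ D, r * d * r⁻¹ ∈ T := by
  let L : Subgroup G := D ⊔ R
  have hDL : D ≤ L := le_sup_left
  have hRL : R ≤ L := le_sup_right
  have cR : Nat.card (R.subgroupOf L) = Nat.card R := Nat.card_congr (Subgroup.subgroupOfEquivOfLe hRL).toEquiv
  have cD : Nat.card (D.subgroupOf L) = Nat.card D := Nat.card_congr (Subgroup.subgroupOfEquivOfLe hDL).toEquiv
  have hsN : Group.IsSolvable (R.subgroupOf L) :=
    Group.isSolvable_of_isSolvable_injective (f := (Subgroup.subgroupOfEquivOfLe hRL).toMonoidHom)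
      (Subgroup.subgroupOfEquivOfLe hRL).injective
  obtain ⟨g, hg⟩ := Cfsg.Agent.H199.GT.sz_in (R.subgroupOf L) (D.subgroupOf L) (T.subgroupOf L) hsN
    (by rw [cR, cD]; exact hcop) (by
      rw [eq_bot_iff]
      rintro ⟨x, hx⟩ ⟨h1, h2⟩
      have h3 : x ∈ R ⊓ T := ⟨h1, h2⟩
      rw [hRT] at h3
      exact Subgroup.mem_bot.2 (Subtype.ext h3)) (by
      rintro ⟨x, hx⟩ hxD
      obtain ⟨t, ht, hxt⟩ := hall x hxD
      have htL : t ∈ L := by
        have h5 : (x * t⁻¹)⁻¹ * x ∈ L := L.mul_mem (L.inv_mem (hRL hxt)) hx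
        have h6 : (x * t⁻¹)⁻¹ * x = t := by group
        rwa [h6] at h5
      exact ⟨⟨t, htL⟩, ht, hxt⟩)
  have hgL : (g : G) ∈ ((R ⊔ D : Subgroup G) : Set G) := by
    rw [sup_comm]
    exact g.2
  rw [Subgroup.normal_mul] at hgL
  obtain ⟨r, hr, d0, hd0, hrd⟩ := Set.mem_mul.1 hgL
  refine ⟨r, hr, fun d hd => ?_⟩
  have h1 := hg ⟨d0⁻¹ * d * d0, hDL (D.mul_mem (D.mul_mem (D.inv_mem hd0) hd) hd0)⟩
    (D.mul_mem (D.mul_mem (D.inv_mem hd0) hd) hd0)
  have h2 : (g : G) * (d0⁻¹ * d * d0) * (g : G)⁻¹ ∈ T := h1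
  rw [← hrd] at h2
  have h3 : r * d0 * (d0⁻¹ * d * d0) * (r * d0)⁻¹ = r * d * r⁻¹ := by group
  rwa [h3] at h2

section Par

variable {n : ℕ} (hK : HypG K 2 n)

include hK

theorem odd_TB (hn : 1 ≤ n) : ¬ 2 ∣ Nat.card (TB K) := by
  have := hK.fin
  have hfin : Finite (MulAut (Qb K)) :=
    Finite.of_injective (fun σ : MulAut (Qb K) => (σ : Qb K → Qb K)) DFunLike.coe_injective
  have : Fact (Nat.Prime 2) := ⟨Nat.prime_two⟩
  intro h
  obtain ⟨⟨ρ, s, t, hρ⟩, h1⟩ := exists_prime_orderOf_dvd_card' 2 h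
  have h3 : ρ ^ (Nat.card K - 1) = 1 := by
    have hs : s ^ (Nat.card K - 1) = 1 := by
      have := Fintype.ofFinite K
      rw [Nat.card_eq_fintype_card]
      exact FiniteField.pow_card_sub_one_eq_one s hρ.ne1
    have ht : t ^ (Nat.card K - 1) = 1 := by
      have := Fintype.ofFinite K
      rw [Nat.card_eq_fintype_card]
      exact FiniteField.pow_card_sub_one_eq_one t hρ.ne2
    exact (hρ.pow _).eq_one hs ht
  have h4 : (⟨ρ, s, t, hρ⟩ : TB K) ^ (Nat.card K - 1) = 1 := Subtype.ext h3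
  have h5 := orderOf_dvd_of_pow_eq_one h4
  rw [h1, hK.card] at h5
  have h6 : 2 ∣ 2 ^ n := dvd_pow_self 2 (by omega)
  have h7 : 1 ≤ 2 ^ n := Nat.one_le_two_pow
  omega

theorem inn_pgroup : IsPGroup 2 (Inn (Qb K)) := by
  rintro ⟨_, y, rfl⟩
  refine ⟨3, Subtype.ext ?_⟩
  have h1 : y ^ 2 ^ 3 = 1 := Subtype.ext (exp_GU hK (y : GU K))
  show (MulAut.conj y) ^ 2 ^ 3 = 1
  rw [← map_pow, h1, map_one]

variable {Γ : Subgroup (MulAut (Qb K))} {D : Subgroup (MulAut (GU K))} (hP : Par 2 (Qb K) Γ D)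

include hP

/-- an element inducing the Weyl element modulo `Z₂` and normalizing the torus -/
theorem exists_w' (hn : 1 ≤ n) (hZ : ∀ γ ∈ Γ, act γ none = none) (hF : Full D) :
    ∃ w ∈ Γ, Sl w (RingEquiv.refl K) 0 1 1 0 ∧ ∀ (s t : K) (ρ : MulAut (Qb K)), Tb ρ s t →
      Tb (w * ρ * w⁻¹) (s * t) t⁻¹ := by
  have h2 := two hK
  have := hK.fin
  have hfin : Finite (MulAut (Qb K)) :=
    Finite.of_injective (fun σ : MulAut (Qb K) => (σ : Qb K → Qb K)) DFunLike.coe_injective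
  have : Fact (Nat.Prime 2) := ⟨Nat.prime_two⟩
  obtain ⟨w0, hw0, hs0⟩ := exists_w hK hP hZ
  have hTΓ : TB K ≤ Γ := by
    rintro ρ ⟨s, t, h⟩
    obtain ⟨α, hα⟩ := Cfsg.Agent.H103.GT.exists_tor (RingEquiv.refl K) h.ne1 h.ne2
    obtain ⟨ρ', hR, h'⟩ := exists_res hα
    have h3 : ρ = ρ' := by
      have h4 := (h.mul h'.inv).eq_one (mul_inv_cancel₀ h.ne1) (mul_inv_cancel₀ h.ne2)
      exact mul_inv_eq_one.1 h4
    rw [h3]
    exact hP.D_res α (hF s t α hα) ρ' hR
  have slT : ∀ {ρ : MulAut (Qb K)} {s t : K}, Tb ρ s t → Sl ρ (RingEquiv.refl K) s 0 0 (s * t) := by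
    intro ρ s t h
    refine ⟨fun g => ?_, fun g => ?_, fun g => ?_, ?_⟩
    · rw [h.a]; simp
    · rw [h.c]; simp
    · rw [h.a, h.c, h.d]; simp only [RingEquiv.refl_apply]; ring
    · rw [zero_mul, add_zero]
      exact mul_ne_zero h.ne1 (mul_ne_zero h.ne1 h.ne2)
  have conj_sl : ∀ {w : MulAut (Qb K)}, Sl w (RingEquiv.refl K) 0 1 1 0 → ∀ {ρ : MulAut (Qb K)} {s t : K}, Tb ρ s t →
      Sl (w * ρ * w⁻¹) (RingEquiv.refl K) (s * t) 0 0 s := by
    intro w hw ρ s t h
    have hρ := slT h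
    refine ⟨?_, ?_, ?_, ?_⟩
    · intro g
      obtain ⟨k, rfl⟩ := w.surjective g
      have e : (w * ρ * w⁻¹) (w k) = w (ρ k) := by
        rw [MulAut.mul_apply, MulAut.mul_apply, MulAut.inv_apply_self]
      rw [e, hw.a, hw.a, h.a, h.c]
      simp only [RingEquiv.refl_apply]
      ring
    · intro g
      obtain ⟨k, rfl⟩ := w.surjective g
      have e : (w * ρ * w⁻¹) (w k) = w (ρ k) := by
        rw [MulAut.mul_apply, MulAut.mul_apply, MulAut.inv_apply_self]
      rw [e, hw.c, hw.c, h.a, h.c]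
      simp only [RingEquiv.refl_apply]
      ring
    · intro g
      obtain ⟨k, rfl⟩ := w.surjective g
      have e : (w * ρ * w⁻¹) (w k) = w (ρ k) := by
        rw [MulAut.mul_apply, MulAut.mul_apply, MulAut.inv_apply_self]
      rw [e, hw.d]
      simp only [RingEquiv.refl_apply]
      rw [hw.d]
      simp only [RingEquiv.refl_apply]
      rw [h.a, h.c, h.d]
      ring
    · rw [zero_mul, add_zero]
      exact mul_ne_zero (mul_ne_zero h.ne1 h.ne2) h.ne1
  -- Schur-Zassenhaus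
  have hsol : Group.IsSolvable (Inn (Qb K)) := by
    have hnil := (inn_pgroup hK).isNilpotent
    infer_instance
  obtain ⟨e, he⟩ := IsPGroup.iff_card.1 (inn_pgroup hK)
  have hcard : Nat.card ((TB K).map (MulAut.conj w0).toMonoidHom) = Nat.card (TB K) :=
    (Nat.card_congr ((TB K).equivMapOfInjective _ (MulAut.conj w0).injective).toEquiv).symm
  obtain ⟨r, ⟨y, rfl⟩, hr⟩ := sz_in' (Inn (Qb K)) ((TB K).map (MulAut.conj w0).toMonoidHom) (TB K) hsol (by
      rw [hcard, he]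
      exact Nat.Coprime.pow_right e ((Nat.Prime.coprime_iff_not_dvd Nat.prime_two).2 (odd_TB hK hn)).symm) (by
      rw [eq_bot_iff]
      rintro x ⟨⟨y, rfl⟩, s, t, h⟩
      have ha : s = 1 := by
        have h1 := h.a (qb 1 0 0 0 0)
        rw [MulAut.conj_apply, ma, ma] at h1
        simp only [Cfsg.Agent.H428.GT.ia, qb_a] at h1
        linear_combination -h1
      have hc : s * t = 1 := by
        have h1 := h.c (qb 0 1 0 0 0)
        rw [MulAut.conj_apply, mc, mc] at h1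
        simp only [Cfsg.Agent.H428.GT.ic, qb_c] at h1
        linear_combination -h1
      rw [ha, one_mul] at hc
      exact Subgroup.mem_bot.2 (h.eq_one ha hc)) (by
      rintro _ ⟨ρ, ⟨s, t, h⟩, rfl⟩
      have hδ : w0 * ρ * w0⁻¹ ∈ Γ := Γ.mul_mem (Γ.mul_mem hw0 (hTΓ ⟨s, t, h⟩)) (Γ.inv_mem hw0)
      have hsl := conj_sl hs0 h
      obtain ⟨x, d, s', t', τ, hd, hdt, hx, hs⟩ := norm_tor hK hP hδ (normAut_of_sl hK hP hδ hsl)
      obtain ⟨h1, h3, -, h5, h6⟩ := hsl.uniq hs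
      subst h1
      have hxb : x.b = 0 := by
        have := hdt.ne1
        exact (mul_eq_zero.1 h5.symm).resolve_right this
      obtain ⟨ρ', hR, h'⟩ := exists_res hdt
      refine ⟨ρ', ⟨s', t', h'⟩, ⟨x, hxb⟩, ?_⟩
      show MulAut.conj (⟨x, hxb⟩ : Qb K) = w0 * ρ * w0⁻¹ * ρ'⁻¹
      rw [eq_mul_inv_iff_mul_eq]
      ext1 g
      apply Subtype.ext
      rw [hx g, ← hR g]
      rfl)
  have hwΓ : MulAut.conj y * w0 ∈ Γ := Γ.mul_mem (hP.indu (inn_le_ind ⟨y, rfl⟩)) hw0
  have hws : Sl (MulAut.conj y * w0) (RingEquiv.refl K) 0 1 1 0 := by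
    have hy : (MulAut.conj y : MulAut (Qb K)) = MulAut.conjNormal (y : GU K) := by
      ext1 g
      apply Subtype.ext
      rw [MulAut.conjNormal_apply]
      rfl
    rw [hy]
    refine ((sl_cj h2 _).mul h2 hs0).congr ?_ ?_ ?_ ?_ ?_
    · ext; simp
    · simp
    · simp
    · simp
    · rw [gb y]; simp
  refine ⟨MulAut.conj y * w0, hwΓ, hws, fun s t ρ h => ?_⟩
  have h1 := hr (w0 * ρ * w0⁻¹) ⟨ρ, ⟨s, t, h⟩, rfl⟩
  have e1 : MulAut.conj y * (w0 * ρ * w0⁻¹) * (MulAut.conj y)⁻¹ =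
      MulAut.conj y * w0 * ρ * (MulAut.conj y * w0)⁻¹ := by group
  rw [e1] at h1
  obtain ⟨s', t', h'⟩ := h1
  obtain ⟨-, h4, -, -, h5⟩ := (slT h').uniq (conj_sl hws h)
  have h6 : t' = t⁻¹ := by
    have hs := h.ne1
    have ht := h.ne2
    rw [h4] at h5
    have h7 : s * (t * t' - 1) = 0 := by linear_combination h5
    have h8 : t * t' - 1 = 0 := (mul_eq_zero.1 h7).resolve_left hs
    field_simp
    linear_combination h8
  rw [h4, h6] at h'
  exact h'

end Par

end Cfsg.Agent.H294.G2.Ev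

/-!
## S5211, `p = 2`, the long root parabolic, fifth part (helper294)

* `lb_inv` : `q ≥ 4` even, `Z₃` invariant under `Γ`: `HasTor`, and `Full D → Γ = Gen IsWb D`;
* `stLb4a`, `stLb4b`, `stAut4`.
-/

namespace Cfsg.Agent.H294.G2.Ev

open Cfsg Cfsg.FusionSystem Cfsg.Agent.H756.PU Cfsg.Agent.H779.G2
open Cfsg.Agent.H428.GT (qb gb qext ma mc mem_ind inn_le_ind inn_of_b qb_a qb_c qb_d qb_e qb_f)

universe u

section
variable {K : Type u} [Field K]

theorem eq_zero_of_mul {r x : K} (hr : r ≠ 1) (h : r * x = x) : x = 0 := by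
  have h1 : (r - 1) * x = 0 := by linear_combination h
  exact (mul_eq_zero.1 h1).resolve_left (sub_ne_zero.2 hr)

/-- the Weyl element -/
theorem isWb (h2 : (2 : K) = 0) {r : K} (hr0 : r ≠ 0) (hr1 : r ≠ 1) {w : MulAut (Qb K)}
    (hs : Sl w (RingEquiv.refl K) 0 1 1 0)
    (hw : ∀ (s t : K) (ρ : MulAut (Qb K)), Tb ρ s t → Tb (w * ρ * w⁻¹) (s * t) t⁻¹) : IsWb w := by
  -- an element fixed by `ρ` is mapped to an element fixed by `w ρ w⁻¹`
  have hfix : ∀ {ρ : MulAut (Qb K)} {g : Qb K}, ρ g = g → (w * ρ * w⁻¹) (w g) = w g := by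
    intro ρ g h
    rw [MulAut.mul_apply, MulAut.mul_apply, MulAut.inv_apply_self, h]
  have hr2 : r ^ 2 ≠ 1 := by
    intro h
    have h3 : (r - 1) * (r - 1) = 0 := by linear_combination h + (1 - r) * h2
    exact hr1 (sub_eq_zero.1 (mul_self_eq_zero.1 h3))
  have hri : r⁻¹ ≠ 1 := fun h => hr1 (inv_eq_one.1 h)
  -- `x₁`
  have w1 : ∀ t : K, w (qb t 0 0 0 0) = qb 0 t 0 0 0 := by
    intro t
    obtain ⟨ρ, hρ⟩ := exists_tb (K := K) one_ne_zero hr0
    have h1 : ρ (qb t 0 0 0 0) = qb t 0 0 0 0 := by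
      refine qext ?_ ?_ ?_ ?_ ?_
      · rw [hρ.a]; simp
      · rw [hρ.c]; simp
      · rw [hρ.d]; simp
      · rw [hρ.e]; simp
      · rw [hρ.f]; simp
    have h3 := hfix h1
    have h4 := hw _ _ _ hρ
    have hc : ((w (qb t 0 0 0 0) : Qb K) : GU K).c = t := by rw [hs.c]; simp
    generalize w (qb t 0 0 0 0) = g at h3 hc ⊢
    have ea := h4.a g
    have ed := h4.d g
    have ee := h4.e g
    have ef := h4.f g
    rw [h3] at ea ed ee ef
    refine qext ?_ ?_ ?_ ?_ ?_
    · exact eq_zero_of_mul hr1 (by rw [one_mul] at ea; exact ea.symm)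
    · exact hc
    · exact eq_zero_of_mul hr1 (by rw [one_mul] at ed; field_simp at ed; rw [mul_comm]; exact ed.symm)
    · exact eq_zero_of_mul hr2 (by rw [one_mul] at ee; field_simp at ee; rw [mul_comm]; exact ee.symm)
    · exact eq_zero_of_mul hr1 (by rw [one_mul] at ef; field_simp at ef; rw [mul_comm]; exact ef.symm)
  -- `x₃`
  have w3 : ∀ t : K, w (qb 0 t 0 0 0) = qb t 0 0 0 0 := by
    intro t
    obtain ⟨ρ, hρ⟩ := exists_tb (K := K) hr0 (inv_ne_zero hr0)
    have h1 : ρ (qb 0 t 0 0 0) = qb 0 t 0 0 0 := by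
      refine qext ?_ ?_ ?_ ?_ ?_
      · rw [hρ.a]; simp
      · rw [hρ.c, mul_inv_cancel₀ hr0, one_mul]
      · rw [hρ.d]; simp
      · rw [hρ.e]; simp
      · rw [hρ.f]; simp
    have h3 := hfix h1
    have h4 := hw _ _ _ hρ
    rw [mul_inv_cancel₀ hr0, inv_inv] at h4
    have hc : ((w (qb 0 t 0 0 0) : Qb K) : GU K).a = t := by rw [hs.a]; simp
    generalize w (qb 0 t 0 0 0) = g at h3 hc ⊢
    have ec := h4.c g
    have ed := h4.d g
    have ee := h4.e g
    have ef := h4.f g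
    rw [h3] at ec ed ee ef
    simp only [one_pow, one_mul] at ec ed ee ef
    exact qext hc (eq_zero_of_mul hr1 ec.symm) (eq_zero_of_mul hr1 ed.symm) (eq_zero_of_mul hr1 ee.symm)
      (eq_zero_of_mul hr2 ef.symm)
  -- `x₄`
  have w4 : ∀ t : K, w (qb 0 0 t 0 0) = qb 0 0 t 0 0 := by
    intro t
    obtain ⟨ρ, hρ⟩ := exists_tb (K := K) hr0 (inv_ne_zero (pow_ne_zero 2 hr0))
    have h1 : ρ (qb 0 0 t 0 0) = qb 0 0 t 0 0 := by
      refine qext ?_ ?_ ?_ ?_ ?_
      · rw [hρ.a]; simp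
      · rw [hρ.c]; simp
      · rw [hρ.d, mul_inv_cancel₀ (pow_ne_zero 2 hr0), one_mul]
      · rw [hρ.e]; simp
      · rw [hρ.f]; simp
    have h3 := hfix h1
    have h4 := hw _ _ _ hρ
    have hd := hs.d (qb 0 0 t 0 0)
    have ha : ((w (qb 0 0 t 0 0) : Qb K) : GU K).a = 0 := by rw [hs.a]; simp
    have hc : ((w (qb 0 0 t 0 0) : Qb K) : GU K).c = 0 := by rw [hs.c]; simp
    rw [ha, hc] at hd
    simp only [qb_a, qb_d, RingEquiv.refl_apply] at hd
    generalize w (qb 0 0 t 0 0) = g at h3 hc hd ha ⊢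
    have ee := h4.e g
    have ef := h4.f g
    rw [h3] at ee ef
    refine qext ha hc ?_ ?_ ?_
    · show (g : GU K).d = t
      linear_combination hd
    · refine eq_zero_of_mul hri ?_
      conv_rhs => rw [ee]
      field_simp
    · refine eq_zero_of_mul hr1 ?_
      conv_rhs => rw [ef]
      field_simp
  -- `x₅`, `x₆`
  have w5 : ∀ t : K, w (qb 0 0 0 t 0) = qb 0 0 0 0 t := by
    intro t
    have e1 : (qb 0 0 t 0 0 * qb 1 0 0 0 0 : Qb K) = qb 1 0 0 0 0 * qb 0 0 t 0 0 * qb 0 0 0 t 0 := by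
      simp only [mul_qb]
      congr 1
      · ring
      · ring
      · ring
      · linear_combination t * h2
      · ring
    have e3 : (qb 0 0 t 0 0 * qb 0 1 0 0 0 : Qb K) = qb 0 1 0 0 0 * qb 0 0 t 0 0 * qb 0 0 0 0 t := by
      simp only [mul_qb]
      congr 1
      · ring
      · ring
      · ring
      · ring
      · linear_combination t * h2
    have h1 := congrArg w e1
    rw [map_mul, map_mul, map_mul, w4, w1, e3] at h1
    exact (mul_left_cancel h1).symm
  have w6 : ∀ t : K, w (qb 0 0 0 0 t) = qb 0 0 0 t 0 := by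
    intro t
    have e1 : (qb 0 0 t 0 0 * qb 1 0 0 0 0 : Qb K) = qb 1 0 0 0 0 * qb 0 0 t 0 0 * qb 0 0 0 t 0 := by
      simp only [mul_qb]
      congr 1
      · ring
      · ring
      · ring
      · linear_combination t * h2
      · ring
    have e3 : (qb 0 0 t 0 0 * qb 0 1 0 0 0 : Qb K) = qb 0 1 0 0 0 * qb 0 0 t 0 0 * qb 0 0 0 0 t := by
      simp only [mul_qb]
      congr 1
      · ring
      · ring
      · ring
      · ring
      · linear_combination t * h2
    have h1 := congrArg w e3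
    rw [map_mul, map_mul, map_mul, w4, w3, e1] at h1
    exact (mul_left_cancel h1).symm
  have key : ∀ g : Qb K, w g = qb (g : GU K).c (g : GU K).a (g : GU K).d
      ((g : GU K).f + (g : GU K).a * (g : GU K).c ^ 2) ((g : GU K).e + (g : GU K).a ^ 2 * (g : GU K).c) := by
    intro g
    have e5 : (qb 0 0 0 (g : GU K).e (g : GU K).f : Qb K) = qb 0 0 0 (g : GU K).e 0 * qb 0 0 0 0 (g : GU K).f := by
      rw [mul_qb]
      congr 1 <;> ring
    conv_lhs => rw [qb_dec g, e5, map_mul, map_mul, map_mul, map_mul, w1, w3, w4, w5, w6]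
    simp only [mul_qb]
    congr 1
    · ring
    · ring
    · linear_combination ((g : GU K).a * (g : GU K).c) * h2
    · linear_combination ((g : GU K).a * (g : GU K).c ^ 2) * h2
    · linear_combination ((g : GU K).a ^ 2 * (g : GU K).c) * h2
  refine ⟨fun g => ?_, fun g => ?_, fun g => ?_, fun g => ?_, fun g => ?_⟩
  · rw [key]; simp only [qb_a]; linear_combination (g : GU K).c * h2
  · rw [key]; rfl
  · rw [key]; simp only [qb_d]; linear_combination ((g : GU K).a * (g : GU K).c) * h2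
  · rw [key]; simp only [qb_e]; linear_combination ((g : GU K).f - (g : GU K).a * (g : GU K).c ^ 2) * h2
  · rw [key]; simp only [qb_f]; linear_combination (2 * (g : GU K).a ^ 2 * (g : GU K).c) * h2

theorem wb_unique' {γ γ' : MulAut (Qb K)} (h : IsWb γ) (h' : IsWb γ') : γ = γ' := by
  ext1 g
  exact qext (by rw [h.a, h'.a]) (by rw [h.c, h'.c]) (by rw [h.d, h'.d]) (by rw [h.e, h'.e]) (by rw [h.f, h'.f])

end

section Par

variable {K : Type u} [Field K] {n : ℕ} (hK : HypG K 2 n) {Γ : Subgroup (MulAut (Qb K))} {D : Subgroup (MulAut (GU K))}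
  (hP : Par 2 (Qb K) Γ D)

include hK hP

/-- `Γ` is the standard automizer, `q ≥ 4` even, `Z₃` invariant -/
theorem eq_gen (hn : 2 ≤ n) (hZ : ∀ γ ∈ Γ, act γ none = none) (hF : Full D) : Γ = Gen IsWb D := by
  have h2 := two hK
  have hq : 2 < 2 ^ n := by
    calc 2 < 2 ^ 2 := by norm_num
      _ ≤ 2 ^ n := Nat.pow_le_pow_right (by norm_num) hn
  obtain ⟨r, hr0, hr1⟩ := exists_ne hK hq
  obtain ⟨w, hw, hws, hwT⟩ := exists_w' hK hP (by omega) hZ hF
  have hwb := isWb h2 hr0 hr1 hws hwT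
  apply le_antisymm
  · have hind : autInducedBy ⊤ (Qb K) ≤ Gen IsWb D := fun x hx => Subgroup.subset_closure (Or.inl (Or.inl hx))
    have hwG : w ∈ Gen IsWb D := Subgroup.subset_closure (Or.inl (Or.inr hwb))
    have key : ∀ γ ∈ Γ, ∀ (τ : K ≃+* K) (p r s : K), Sl γ τ p 0 r s → γ ∈ Gen IsWb D := by
      intro γ hγ τ p r s h
      obtain ⟨x, d, -, -, -, hd, -, hx, -⟩ := norm_tor hK hP hγ (normAut_of_sl hK hP hγ h)
      have h3 : (MulAut.conjNormal x)⁻¹ * γ ∈ Gen IsWb D := by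
        refine Subgroup.subset_closure (Or.inr ⟨d, hd, fun e => ?_⟩)
        have e1 : ((MulAut.conjNormal x)⁻¹ * γ : MulAut (Qb K)) = MulAut.conjNormal x⁻¹ * γ := by rw [map_inv]
        rw [e1, MulAut.mul_apply, MulAut.conjNormal_apply, hx]
        group
      have h4 := (Gen IsWb D).mul_mem (hind (cj_mem_ind x)) h3
      rwa [mul_inv_cancel_left] at h4
    intro γ hγ
    have := hK.fin
    obtain ⟨τ, p, q, r, s, h⟩ := exists_sl h2 (hZ γ hγ)
    by_cases hq0 : q = 0
    · subst hq0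
      exact key γ hγ τ p r s h
    · have h3 := (sl_cj h2 (⟨0, s / q, 0, 0, 0, 0⟩ : GU K)).mul h2 h
      have h4 := (hws.mul h2 h3).congr (γ := w * (MulAut.conjNormal (⟨0, s / q, 0, 0, 0, 0⟩ : GU K) * γ)) rfl rfl
        (q' := 0) (by
          simp only [RingEquiv.refl_apply]
          field_simp
          linear_combination s * h2) rfl rfl
      have h5 := key _ (Γ.mul_mem hw (Γ.mul_mem (cj_mem hP _) hγ)) _ _ _ _ h4
      have h6 := (Gen IsWb D).mul_mem ((Gen IsWb D).inv_mem hwG) h5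
      rw [inv_mul_cancel_left] at h6
      have h7 := (Gen IsWb D).mul_mem ((Gen IsWb D).inv_mem (hind (cj_mem_ind (⟨0, s / q, 0, 0, 0, 0⟩ : GU K)))) h6
      rwa [inv_mul_cancel_left] at h7
  · refine (Subgroup.closure_le _).2 ?_
    rintro γ ((hγ | hγ) | ⟨d, hd, hγ⟩)
    · exact hP.indu hγ
    · rw [wb_unique' hγ hwb]
      exact hw
    · exact hP.D_res d hd γ hγ

/-- **`q ≥ 4` even, `Z₃` invariant** -/
theorem lb_inv (hn : 2 ≤ n) (hI : Inv Γ (Z3 K)) :
    HasTor D (fun t => t⁻¹) (fun t => t ^ 2) ∧ (Full D → Γ = Gen IsWb D) := by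
  have hZ : ∀ γ ∈ Γ, act γ none = none := by
    intro γ hγ
    have h1 := hI.2 γ hγ (qb 0 0 1 0 0) ⟨rfl, rfl, rfl⟩
    exact pt_none.2 ⟨h1.1, h1.2.2⟩
  exact ⟨hasTor hK hP hZ, eq_gen hK hP hn hZ⟩

/-- `q` even: if the class of `Z₃` is invariant, `Z₃` is invariant -/
theorem inv_Z3 (hZ : ∀ γ ∈ Γ, act γ none = none) : Inv Γ (Z3 K) := by
  have h2 := two hK
  refine ⟨fun x hx => hx.2.1, fun γ hγ g hg => ?_⟩
  obtain ⟨ha, -, hc⟩ := hg
  by_cases hd : (g : GU K).d = 0
  · have h1 := (cn_map h2 γ g).2 ⟨ha, hc, hd⟩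
    exact ⟨h1.1, gb _, h1.2.1⟩
  · have hT : T g := by
      refine ⟨(sq_eq_one h2 g).2 ?_, fun h => hd h.2.2⟩
      rw [ha, hc]
      constructor <;> ring
    have h3 := pt_map h2 γ hT
    rw [pt_none.2 ⟨ha, hc⟩, hZ γ hγ, pt_none] at h3
    exact ⟨h3.1, gb _, h3.2⟩

/-- `q = 4`: no invariant pair of classes -/
theorem not_third (hn : n = 2) (h : ∀ γ ∈ Γ, ∀ m : K, ∃ m', act γ (some (some m)) = some (some m')) : False := by
  have h2 := two hK
  have := hK.fin
  have := Fintype.ofFinite K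
  have hcard : Fintype.card K = 4 := by
    rw [← Nat.card_eq_fintype_card, hK.card, hn]
    norm_num
  refine hP.nn fun γ hγ => ?_
  choose ρ hρ using h γ hγ
  have hinj : Function.Injective ρ := by
    intro m m' hm
    have h1 : act γ (some (some m)) = act γ (some (some m')) := by rw [hρ, hρ, hm]
    have h3 := act_inj h2 γ h1
    rwa [Option.some_inj, Option.some_inj] at h3
  have hsum : ∑ x : K, ρ x = 0 := by
    have h1 : ∑ x : K, x ^ 1 = 0 := FiniteField.sum_pow_lt_card_sub_one K 1 (by rw [hcard]; norm_num)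
    simp only [pow_one] at h1
    rw [← h1]
    exact Equiv.sum_comp (Equiv.ofBijective ρ (Finite.injective_iff_bijective.1 hinj)) (fun x => x)
  have hadd : ∀ u : K, ∃ v, ∀ m, ρ (m + u) = ρ m + v := by
    classical
    intro u
    by_cases hu : u = 0
    · exact ⟨0, fun m => by rw [hu, add_zero, add_zero]⟩
    · refine ⟨ρ 0 + ρ u, fun m => ?_⟩
      by_cases hm : m = 0
      · rw [hm, zero_add]
        linear_combination (-ρ 0) * h2
      · by_cases hmu : m = u
        · have e : u + u = 0 := by linear_combination u * h2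
          rw [hmu, e]
          linear_combination (-ρ u) * h2
        · have hS : ({0, u, m, m + u} : Finset K) = Finset.univ := by
            refine Finset.eq_univ_of_card _ ?_
            rw [hcard]
            have n1 : m + u ≠ 0 := fun h3 => hmu (eq_of_add h2 h3)
            have n2 : m + u ≠ u := fun h3 => hm (by linear_combination h3)
            have n3 : m + u ≠ m := fun h3 => hu (by linear_combination h3)
            rw [Finset.card_insert_of_notMem, Finset.card_insert_of_notMem, Finset.card_insert_of_notMem,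
              Finset.card_singleton]
            · simp [n3.symm]
            · simp only [Finset.mem_insert, Finset.mem_singleton, not_or]
              exact ⟨fun h3 => hmu h3.symm, n2.symm⟩
            · simp only [Finset.mem_insert, Finset.mem_singleton, not_or]
              exact ⟨fun h3 => hu h3.symm, fun h3 => hm h3.symm, n1.symm⟩
          rw [← hS, Finset.sum_insert, Finset.sum_insert, Finset.sum_insert, Finset.sum_singleton] at hsum
          · linear_combination hsum - (ρ 0 + ρ u + ρ m) * h2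
          · intro h3
            rw [Finset.mem_singleton] at h3
            exact hu (by linear_combination -h3)
          · simp only [Finset.mem_insert, Finset.mem_singleton, not_or]
            exact ⟨fun h3 => hmu h3.symm, fun h3 => hm (by linear_combination -h3)⟩
          · simp only [Finset.mem_insert, Finset.mem_singleton, not_or]
            exact ⟨fun h3 => hu h3.symm, fun h3 => hm h3.symm, fun h3 => hmu (eq_of_add h2 h3.symm)⟩
  have hout : ∀ i : Option (Option K), (∀ m, i ≠ some (some m)) → ∀ m, act γ i ≠ some (some m) := by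
    intro i hi m hm
    obtain ⟨m', hm'⟩ := h γ⁻¹ (Γ.inv_mem hγ) m
    rw [act_inv h2 γ hm] at hm'
    exact hi m' hm'
  have hcj : ∀ (y : GU K) (i : Option (Option K)), (∀ m, i ≠ some (some m)) → act (MulAut.conjNormal y) i = i := by
    intro y i hi
    rw [act_cj h2]
    rcases i with _ | _ | m
    · rfl
    · rfl
    · exact absurd rfl (hi m)
  refine normAut_of hK hP hγ fun x => ?_
  obtain ⟨v, hv⟩ := hadd x.b
  refine ⟨⟨0, v, 0, 0, 0, 0⟩, ?_⟩
  set y : GU K := ⟨0, v, 0, 0, 0, 0⟩ with hy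
  have e1 : γ * MulAut.conjNormal x * γ⁻¹ * (MulAut.conjNormal y)⁻¹ =
      (γ * MulAut.conjNormal x) * (MulAut.conjNormal y * γ)⁻¹ := by group
  have hAB : ∀ i, act (γ * MulAut.conjNormal x) i = act (MulAut.conjNormal y * γ) i := by
    intro i
    rw [act_mul h2, act_mul h2]
    by_cases hi : ∀ m, i ≠ some (some m)
    · rw [hcj x i hi, hcj y _ (hout i hi)]
    · push Not at hi
      obtain ⟨m, rfl⟩ := hi
      rw [act_cj h2, hρ m, act_cj h2]
      show act γ (some (some (m + x.b))) = some (some (ρ m + v))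
      rw [hρ, hv]
  have hk : ∀ i, act (γ * MulAut.conjNormal x * γ⁻¹ * (MulAut.conjNormal y)⁻¹) i = i := by
    intro i
    rw [e1, act_mul h2, hAB, ← act_mul h2, mul_inv_cancel, act_one]
  obtain ⟨α, hα0, hα⟩ := ker_act hK hP hk
  set κ : MulAut (Qb K) := γ * MulAut.conjNormal x * γ⁻¹ * (MulAut.conjNormal y)⁻¹ with hκ
  have e2 : κ * MulAut.conjNormal y = γ * MulAut.conjNormal x * γ⁻¹ := by
    rw [hκ]
    group
  have hpow : ∀ k : ℕ, ∀ g : Qb K, ((((κ * MulAut.conjNormal y : MulAut (Qb K)) ^ k) g : Qb K) : GU K).a =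
      α ^ k * (g : GU K).a := by
    intro k
    induction k with
    | zero => intro g; simp
    | succ k ih =>
      intro g
      rw [pow_succ, MulAut.mul_apply, ih, MulAut.mul_apply, (hα _).1, cj_a]
      ring
  have h8 : (κ * MulAut.conjNormal y) ^ 2 ^ 3 = 1 := by
    rw [e2, ← MulAut.conj_apply, ← map_pow, ← map_pow, exp_GU hK x, map_one, map_one]
  have hα8 : α ^ 2 ^ 3 = 1 := by
    have h1 := hpow (2 ^ 3) (qb 1 0 0 0 0)
    rw [h8] at h1
    simp only [MulAut.one_apply, qb_a, mul_one] at h1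
    exact h1.symm
  have hsq : ∀ z : K, z * z = 1 → z = 1 := by
    intro z hz
    have h1 : (z + 1) * (z + 1) = 0 := by linear_combination hz + (z + 1) * h2
    exact eq_of_add h2 (mul_self_eq_zero.1 h1)
  have hα1 : α = 1 := by
    have h1 : α * α = 1 := by
      refine hsq _ (hsq _ ?_)
      rw [← hα8]
      ring
    exact hsq _ h1
  intro g
  rw [(hα g).1, (hα g).2.1, (hα g).2.2, hα1]
  exact ⟨one_mul _, one_mul _, by rw [one_pow, one_mul]⟩

end Par

/-- **`q = 4`, `Q_b`: the invariant subgroup** -/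
theorem stLb4a : StLb4a.{u} := by
  intro K _ hK Γ D hP
  have h2 := two hK
  rcases alternatives hK hP (by norm_num) with h | h | h
  · exact Or.inl (inv_Z3 hK hP h)
  · right
    intro γ hγ g ha hd
    by_cases hc : (g : GU K).c = 0
    · have h1 := (cn_map h2 γ g).2 ⟨ha, hc, hd⟩
      exact ⟨h1.1, h1.2.2⟩
    · have hT : T g := by
        refine ⟨(sq_eq_one h2 g).2 ?_, fun h => hc h.2.1⟩
        rw [ha, hd]
        constructor <;> ring
      have h3 := pt_map h2 γ hT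
      rw [pt_inf.2 ⟨ha, hc⟩, h γ hγ, pt_inf] at h3
      have h4 := (T_map h2 γ hT).d_eq h2 fun h => h3.2 h.2
      rw [h3.1, zero_mul] at h4
      exact ⟨h3.1, h4⟩
  · exact (not_third hK hP rfl h).elim

/-- **`q = 4`, `Q_b`, `Z₃` invariant** -/
theorem stLb4b : StLb4b.{u} := fun hK _ _ hP hI => lb_inv hK hP le_rfl hI

/-! ### `q = 4`: the automorphisms -/

section
variable {K : Type u} [Field K]

/-- the swap -/
def swMap (g : GU K) : GU K := ⟨g.a ^ 2, g.b, g.d, g.c, g.e, g.f + g.c * g.d + g.e ^ 2⟩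

theorem swMap_mul (h2 : (2 : K) = 0) (h4 : ∀ z : K, z ^ 4 - z = 0) (x y : GU K) :
    swMap (x * y) = swMap x * swMap y := by
  have hya := h4 y.a
  ext
  · simp only [swMap, GU.mul_a]
    linear_combination (x.a * y.a) * h2
  · simp only [swMap, GU.mul_b]
  · simp only [swMap, GU.mul_c, GU.mul_d]
    linear_combination (x.c * y.a) * h2
  · simp only [swMap, GU.mul_c, GU.mul_d]
    linear_combination (-x.b) * hya + (-x.d * y.a ^ 2) * h2
  · simp only [swMap, GU.mul_e]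
    linear_combination (-3 * x.d + -x.b * y.a ^ 2) * hya
  · simp only [swMap, GU.mul_c, GU.mul_d, GU.mul_e, GU.mul_f]
    linear_combination ((3) * x.d * y.b + (9) * x.c ^ 2 + (-3) * x.b * y.d + (1) * x.b * y.a ^ 2 * y.b + (3) * x.b * x.d +
      (6) * x.b * x.c * y.a) * hya + ((1) * x.e * y.e + (2) * x.d * y.c + (3) * x.d * y.a * y.e +
      (-3) * x.d * y.a ^ 2 * y.d + (3) * x.d * x.e * y.a + (3) * x.d ^ 2 * y.a ^ 2 + (-1) * x.c * y.d +
      (4) * x.c * y.a * y.c + (3) * x.c * y.a ^ 2 * y.e + (3) * x.c * x.e * y.a ^ 2 + (9) * x.c * x.d * y.a ^ 3 +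
      (7) * x.c ^ 2 * y.a + (-1) * x.b * y.a * y.d + (2) * x.b * y.a ^ 2 * y.c + (1) * x.b * y.a ^ 3 * y.e +
      (1) * x.b * x.e * y.a ^ 3 + (2) * x.b * x.d * y.a + (6) * x.b * x.c * y.a ^ 2 + (1) * x.b ^ 2 * y.a ^ 3) * h2

/-- the central automorphism -/
def ceMap (k : K) (g : GU K) : GU K := ⟨g.a, g.b, g.c, g.d, g.e, g.f + k * g.b ^ 2⟩

theorem ceMap_mul (h2 : (2 : K) = 0) (k : K) (x y : GU K) : ceMap k (x * y) = ceMap k x * ceMap k y := by
  ext
  · simp only [ceMap, GU.mul_a]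
  · simp only [ceMap, GU.mul_b]
  · simp only [ceMap, GU.mul_c]
  · simp only [ceMap, GU.mul_d]
  · simp only [ceMap, GU.mul_e]
  · simp only [ceMap, GU.mul_f, GU.mul_b]
    linear_combination (k * x.b * y.b) * h2

/-- **`q = 4`: the automorphisms** -/
theorem stAut4 : StAut4.{u} := by
  intro K _ hK
  have h2 := two hK
  have := hK.fin
  have h4 : ∀ z : K, z ^ 4 - z = 0 := by
    intro z
    have := Fintype.ofFinite K
    have h1 := FiniteField.pow_card z
    rw [← Nat.card_eq_fintype_card, hK.card] at h1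
    rw [sub_eq_zero]
    exact h1
  refine ⟨⟨Cfsg.Agent.H103.GT.mkAut swMap (swMap_mul h2 h4) ?_, fun _ => rfl, fun _ => rfl, fun _ => rfl, fun _ => rfl,
    fun _ => rfl, fun _ => rfl⟩, fun k => ⟨Cfsg.Agent.H103.GT.mkAut (ceMap k) (ceMap_mul h2 k) ?_, fun _ => rfl,
    fun _ => rfl, fun _ => rfl, fun _ => rfl, fun _ => rfl, fun _ => rfl⟩⟩
  · intro x hx
    have ha : x.a = 0 := by
      have h : x.a ^ 2 = 0 := congrArg GU.a hx
      exact pow_eq_zero_iff (by norm_num) |>.1 h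
    have hb : x.b = 0 := congrArg GU.b hx
    have hc : x.c = 0 := congrArg GU.d hx
    have hd : x.d = 0 := congrArg GU.c hx
    have he : x.e = 0 := congrArg GU.e hx
    have hf : x.f = 0 := by
      have h : x.f + x.c * x.d + x.e ^ 2 = 0 := congrArg GU.f hx
      rw [hc, he] at h
      linear_combination h
    ext <;> assumption
  · intro x hx
    have ha : x.a = 0 := congrArg GU.a hx
    have hb : x.b = 0 := congrArg GU.b hx
    have hc : x.c = 0 := congrArg GU.c hx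
    have hd : x.d = 0 := congrArg GU.d hx
    have he : x.e = 0 := congrArg GU.e hx
    have hf : x.f = 0 := by
      have h : x.f + k * x.b ^ 2 = 0 := congrArg GU.f hx
      rw [hb] at h
      linear_combination h
    ext <;> assumption

end

end Cfsg.Agent.H294.G2.Ev
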