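import Cfsg.Agent.H294.G2.EvFin
import Cfsg.Agent.H771.GT.WFin
import Cfsg.Agent.H297.GT.LaTwo
import Cfsg.Agent.H771.GT.Sem

/-!
# S5211, `q = 4`, the short root parabolic: `StLa4` (helper294)

The deviation of `ω⁻¹ w` (`w ∈ Γ` acting as the Weyl element on `Q_a / Z₁`) is linear plus `k (b² + e²)`; so `η ω η⁻¹ ∈ Γ`,
`η` the restriction of the central automorphism `IsCe4 k`.
-/

set_option autoImplicit false
set_option linter.unusedSectionVars false
set_option linter.unusedSimpArgs false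

namespace Cfsg.Agent.H294.G2.Four

open Cfsg Cfsg.FusionSystem Cfsg.Agent.H756.PU Cfsg.Agent.H779.G2 Cfsg.Agent.H103.GT Cfsg.Agent.H802
open Cfsg.Agent.H949.GT Cfsg.Agent.H771.GT

universe u

variable {K : Type u} [Field K]

/-- the commutators with the torus -/
theorem key {p n : ℕ} (hK : HypG K p n) (h3 : (3 : K) ≠ 0) {Γ : Subgroup (MulAut (Qa K))}
    {D : Subgroup (MulAut (GU K))} (hP : Par p (Qa K) Γ D) (hD : Full D) {w ω : MulAut (Qa K)} (hwΓ : w ∈ Γ)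
    (hω : IsWa ω) (hφT : Trv (ω⁻¹ * w)) : ∀ s t : K, s ≠ 0 → t ≠ 0 → ∃ x : GU K, ∀ g : Qa K,
      (s ^ 3 * t ^ 2)⁻¹ * zf (ω⁻¹ * w) (qa (t * (g : GU K).b) (s * t * (g : GU K).c) (s ^ 2 * t * (g : GU K).d)
        (s ^ 3 * t * (g : GU K).e) 0) - zf (ω⁻¹ * w) g = x.b * (g : GU K).e - 3 * x.c * (g : GU K).d +
          3 * x.d * (g : GU K).c - x.e * (g : GU K).b := by
  set φ : MulAut (Qa K) := ω⁻¹ * w with hφ
  intro s t hs ht
  obtain ⟨α, hα⟩ := exists_tor (K := K) (s := s) (t := t) (RingEquiv.refl K) hs ht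
  obtain ⟨α', hα'⟩ := exists_tor (K := K) (s := s⁻¹) (t := s ^ 3 * t) (RingEquiv.refl K) (inv_ne_zero hs)
    (mul_ne_zero (pow_ne_zero _ hs) ht)
  obtain ⟨δ, hδ⟩ := exists_isR hα
  obtain ⟨δ', hδ'⟩ := exists_isR hα'
  have hδΓ : δ ∈ Γ := hP.D_res α (hD _ _ _ hα) δ hδ
  have hδΓ' : δ' ∈ Γ := hP.D_res α' (hD _ _ _ hα') δ' hδ'
  have hc1 : ω * δ = δ' * ω := by
    apply MulEquiv.ext
    intro g
    rw [MulAut.mul_apply, MulAut.mul_apply]
    apply qa_ext
    · rw [hω.b, hδ, hδ', hα.e, hα'.b, hω.b]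
    · rw [hω.c, hδ, hδ', hα.d, hα'.c, hω.c]
      simp only [RingEquiv.refl_apply]
      field_simp
    · rw [hω.d, hδ, hδ', hα.c, hα'.d, hω.d]
      simp only [RingEquiv.refl_apply]
      field_simp
    · rw [hω.e, hδ, hδ', hα.b, hα'.e, hω.e]
      simp only [RingEquiv.refl_apply]
      field_simp
    · rw [hω.f, hδ, hδ', hα.f, hα.b, hα.e, hα.c, hα.d, hα'.f, hω.f]
      simp only [RingEquiv.refl_apply]
      field_simp
  set ψ : MulAut (Qa K) := w⁻¹ * δ'⁻¹ * w * δ with hψ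
  have hψΓ : ψ ∈ Γ := Γ.mul_mem (Γ.mul_mem (Γ.mul_mem (Γ.inv_mem hwΓ) (Γ.inv_mem hδΓ')) hwΓ) hδΓ
  have hψe : δ * φ * ψ = φ * δ := by
    have e1 : δ = ω⁻¹ * δ' * ω := by rw [mul_assoc, ← hc1, inv_mul_cancel_left]
    rw [hψ, hφ, e1]
    group
  have hg : ∀ g : Qa K, δ (φ (ψ g)) = φ (δ g) := fun g => by
    have := congrArg (fun γ : MulAut (Qa K) => γ g) hψe
    exact this
  have hψT : Trv ψ := by
    intro g
    have h1 := hg g
    obtain ⟨a1, a2, a3, a4⟩ := hφT (ψ g)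
    obtain ⟨b1, b2, b3, b4⟩ := hφT (δ g)
    have r1 := congrArg (fun x : Qa K => (x : GU K).b) h1
    have r2 := congrArg (fun x : Qa K => (x : GU K).c) h1
    have r3 := congrArg (fun x : Qa K => (x : GU K).d) h1
    have r4 := congrArg (fun x : Qa K => (x : GU K).e) h1
    rw [b1, hδ, hδ, hα.b, hα.b, a1] at r1
    rw [b2, hδ, hδ, hα.c, hα.c, a2] at r2
    rw [b3, hδ, hδ, hα.d, hα.d, a3] at r3
    rw [b4, hδ, hδ, hα.e, hα.e, a4] at r4
    exact ⟨mul_left_cancel₀ ht r1, mul_left_cancel₀ (mul_ne_zero hs ht) r2,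
      mul_left_cancel₀ (mul_ne_zero (pow_ne_zero _ hs) ht) r3,
      mul_left_cancel₀ (mul_ne_zero (pow_ne_zero _ hs) ht) r4⟩
  obtain ⟨x, hx⟩ := zf_lin (trv_mem hK h3 hP hψΓ hψT) hψT
  refine ⟨x, fun g => ?_⟩
  rw [← hx g]
  have h1 := congrArg (fun x : Qa K => (x : GU K).f) (hg g)
  rw [hδ, hα.f] at h1
  have h2 : ((φ (ψ g) : Qa K) : GU K).f = zf φ g + zf ψ g + (g : GU K).f := by
    obtain ⟨a1, a2, a3, a4⟩ := hψT g
    have h4 := zf_congr hφT a1 a2 a3 a4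
    rw [← h4]
    unfold zf
    ring
  have h4 : ((φ (δ g) : Qa K) : GU K).f = zf φ (qa (t * (g : GU K).b) (s * t * (g : GU K).c)
      (s ^ 2 * t * (g : GU K).d) (s ^ 3 * t * (g : GU K).e) 0) + s ^ 3 * t ^ 2 * (g : GU K).f := by
    have h5 : zf φ (qa (t * (g : GU K).b) (s * t * (g : GU K).c) (s ^ 2 * t * (g : GU K).d)
        (s ^ 3 * t * (g : GU K).e) 0) = zf φ (δ g) := by
      refine zf_congr hφT ?_ ?_ ?_ ?_
      · rw [hδ, hα.b]; rfl
      · rw [hδ, hα.c]; rfl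
      · rw [hδ, hα.d]; rfl
      · rw [hδ, hα.e]; rfl
    rw [h5]
    unfold zf
    rw [hδ, hα.f]
    simp
  rw [h2, h4] at h1
  have hne : s ^ 3 * t ^ 2 ≠ 0 := mul_ne_zero (pow_ne_zero _ hs) (pow_ne_zero _ ht)
  simp only [RingEquiv.refl_apply] at h1
  have h6 : zf φ (qa (t * (g : GU K).b) (s * t * (g : GU K).c) (s ^ 2 * t * (g : GU K).d)
      (s ^ 3 * t * (g : GU K).e) 0) = (s ^ 3 * t ^ 2) * (zf φ g + zf ψ g) := by
    linear_combination -h1
  rw [h6, inv_mul_cancel_left₀ hne]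
  ring

/-- a linear deviation: inner -/
theorem inner_of_lin (h3 : (3 : K) ≠ 0) {ψ : MulAut (Qa K)} (hT : Trv ψ) {mb mc md me : K}
    (h : ∀ g : Qa K, zf ψ g = mb * (g : GU K).b + mc * (g : GU K).c + md * (g : GU K).d + me * (g : GU K).e) :
    ψ ∈ autInducedBy ⊤ (Qa K) := by
  refine (mem_autInducedBy_iff _ _ _).2 ⟨⟨0, me, -(3⁻¹ * md), 3⁻¹ * mc, -mb, 0⟩, trivial, fun g => ?_⟩
  have ha : (g : GU K).a = 0 := g.2
  have ha' : ((ψ g : Qa K) : GU K).a = 0 := (ψ g).2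
  obtain ⟨b1, b2, b3, b4⟩ := hT g
  apply GU.ext
  · rw [cj_a, ha, ha']
  · rw [cj_b, b1]
  · rw [cj_c, b2, ha]
    ring
  · rw [cj_d, b3, ha]
    ring
  · rw [cj_e, b4, ha]
    ring
  · rw [cj_f, ha]
    have h5 : ((ψ g : Qa K) : GU K).f = zf ψ g + (g : GU K).f := by
      unfold zf
      ring
    rw [h5, h g]
    have h6 : (3 : K) * 3⁻¹ = 1 := mul_inv_cancel₀ h3
    linear_combination (-md * (g : GU K).d - mc * (g : GU K).c) * h6

section four

variable (hK : HypG K 2 2)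

include hK

theorem two : (2 : K) = 0 := by
  have := hK.char
  exact CharTwo.two_eq_zero

theorem three : (3 : K) ≠ 0 := by
  intro h3
  have h2 := two hK
  have : (1 : K) = 0 := by linear_combination h3 - h2
  exact one_ne_zero this

/-- the field with four elements -/
theorem exists_s : ∃ s : K, s ^ 2 + s + 1 = 0 ∧ s ≠ 0 ∧ s ≠ 1 ∧ ∀ u : K, u = 0 ∨ u = 1 ∨ u = s ∨ u = s + 1 := by
  classical
  have h2 := two hK
  have := hK.fin
  have := Fintype.ofFinite K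
  have hcard : Fintype.card K = 4 := by
    rw [← Nat.card_eq_fintype_card, hK.card]
    norm_num
  obtain ⟨s, hs0, hs1⟩ := Cfsg.Agent.H294.G2.exists_ne hK (by norm_num)
  have n1 : s + 1 ≠ 0 := fun h => hs1 (by linear_combination h - h2)
  have n2 : s + 1 ≠ 1 := fun h => hs0 (by linear_combination h)
  have n3 : s + 1 ≠ s := fun h => one_ne_zero (α := K) (by linear_combination h)
  have hS : ({0, 1, s, s + 1} : Finset K) = Finset.univ := by
    refine Finset.eq_univ_of_card _ ?_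
    rw [hcard, Finset.card_insert_of_notMem, Finset.card_insert_of_notMem, Finset.card_insert_of_notMem,
      Finset.card_singleton]
    · simp [n3.symm]
    · simp only [Finset.mem_insert, Finset.mem_singleton, not_or]
      exact ⟨hs1.symm, n2.symm⟩
    · simp only [Finset.mem_insert, Finset.mem_singleton, not_or]
      exact ⟨zero_ne_one, hs0.symm, n1.symm⟩
  have hall : ∀ u : K, u = 0 ∨ u = 1 ∨ u = s ∨ u = s + 1 := by
    intro u
    have h1 : u ∈ ({0, 1, s, s + 1} : Finset K) := hS ▸ Finset.mem_univ u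
    simpa only [Finset.mem_insert, Finset.mem_singleton] using h1
  refine ⟨s, ?_, hs0, hs1, hall⟩
  rcases hall (s ^ 2) with h | h | h | h
  · exact absurd (pow_eq_zero_iff (two_ne_zero) |>.1 h) hs0
  · exfalso
    have h4 : (s - 1) * (s - 1) = 0 := by linear_combination h + (1 - s) * h2
    exact hs1 (sub_eq_zero.1 (mul_self_eq_zero.1 h4))
  · exfalso
    have h4 : s * (s - 1) = 0 := by linear_combination h
    rcases mul_eq_zero.1 h4 with h5 | h5
    · exact hs0 h5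
    · exact hs1 (sub_eq_zero.1 h5)
  · linear_combination h + (s + 1) * h2

/-- additive maps of the field with four elements -/
theorem add_four {l : K → K} (hl : ∀ u v, l (u + v) = l u + l v) : ∃ m n : K, ∀ u, l u = m * u + n * u ^ 2 := by
  have h2 := two hK
  obtain ⟨s, hs, -, -, hall⟩ := exists_s hK
  have l0 : l 0 = 0 := by
    have := hl 0 0
    rw [add_zero] at this
    linear_combination -this
  refine ⟨l 1 + (l s + s * l 1), l s + s * l 1, fun u => ?_⟩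
  rcases hall u with rfl | rfl | rfl | rfl
  · rw [l0]; ring
  · linear_combination (-(l s + s * l 1)) * h2
  · linear_combination (-(l u + u * l 1)) * hs + (l u) * h2
  · rw [hl]
    linear_combination (-(l s + s * l 1)) * hs + (l s - (l s + s * l 1) - s * (l s + s * l 1)) * h2

/-- the shape of the deviation -/
theorem exists_shape {Γ : Subgroup (MulAut (Qa K))} {D : Subgroup (MulAut (GU K))} (hP : Par 2 (Qa K) Γ D)
    (hD : Full D) {w ω : MulAut (Qa K)} (hwΓ : w ∈ Γ) (hw : H889.GT.ActW w) (hω : IsWa ω) :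
    Trv (ω⁻¹ * w) ∧ ∃ mb mc md me k : K, ∀ g : Qa K, zf (ω⁻¹ * w) g = mb * (g : GU K).b + mc * (g : GU K).c +
      md * (g : GU K).d + me * (g : GU K).e + k * ((g : GU K).b ^ 2 + (g : GU K).e ^ 2) := by
  have h2 := two hK
  have h3 := three hK
  set φ : MulAut (Qa K) := ω⁻¹ * w with hφ
  have hωφ : ω * φ = w := by rw [hφ, mul_inv_cancel_left]
  have hφT : Trv φ := by
    intro g
    have h1 : ω (φ g) = w g := by rw [← MulAut.mul_apply, hωφ]
    obtain ⟨w1, w2, w3, w4⟩ := hw g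
    rw [← h1, hω.b] at w1
    rw [← h1, hω.c] at w2
    rw [← h1, hω.d] at w3
    rw [← h1, hω.e] at w4
    exact ⟨neg_injective w4, w3, neg_injective w2, w1⟩
  refine ⟨hφT, ?_⟩
  have hkey := key hK h3 hP hD hwΓ hω hφT
  rw [← hφ] at hkey
  obtain ⟨s, hs, hs0, hs1, -⟩ := exists_s hK
  have add1 : ∀ {f : K → Qa K}, (∀ u v, f (u + v) = f u * f v) → ∀ u v, zf φ (f (u + v)) = zf φ (f u) + zf φ (f v) :=
    fun hf u v => by rw [hf, zf_mul hφT]
  obtain ⟨mb, nb, hb⟩ := add_four hK (l := fun u => zf φ (qa u 0 0 0 0))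
    (add1 (f := fun u => qa u 0 0 0 0) fun u v => by apply qa_ext <;> simp [qa])
  obtain ⟨me, ne, he⟩ := add_four hK (l := fun u => zf φ (qa 0 0 0 u 0))
    (add1 (f := fun u => qa 0 0 0 u 0) fun u v => by apply qa_ext <;> simp [qa])
  have lc : ∃ m : K, ∀ u : K, zf φ (qa 0 u 0 0 0) = m * u := by
    obtain ⟨x, hx⟩ := hkey s s⁻¹ hs0 (inv_ne_zero hs0)
    have hne : s⁻¹ - 1 ≠ 0 := by
      intro h
      exact hs1 (inv_eq_one.1 (sub_eq_zero.1 h))
    refine ⟨(s⁻¹ - 1)⁻¹ * (3 * x.d), fun u => ?_⟩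
    have h1 := hx (qa 0 u 0 0 0)
    have e1 : (s ^ 3 * s⁻¹ ^ 2)⁻¹ = s⁻¹ := by field_simp
    have e2 : s * s⁻¹ = 1 := mul_inv_cancel₀ hs0
    rw [e1, e2] at h1
    simp only [qa, one_mul, mul_zero, one_pow, mul_one, add_zero, sub_zero, zero_sub, zero_add] at h1 ⊢
    have h2 : (s⁻¹ - 1) * zf φ ⟨⟨0, 0, u, 0, 0, 0⟩, rfl⟩ = 3 * x.d * u := by
      linear_combination h1
    rw [mul_assoc, ← h2, inv_mul_cancel_left₀ hne]
  have ld : ∃ m : K, ∀ u : K, zf φ (qa 0 0 u 0 0) = m * u := by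
    obtain ⟨x, hx⟩ := hkey s (s ^ 2)⁻¹ hs0 (inv_ne_zero (pow_ne_zero _ hs0))
    have hne : s - 1 ≠ 0 := sub_ne_zero.2 hs1
    refine ⟨(s - 1)⁻¹ * (-(3 * x.c)), fun u => ?_⟩
    have h1 := hx (qa 0 0 u 0 0)
    have e1 : (s ^ 3 * (s ^ 2)⁻¹ ^ 2)⁻¹ = s := by field_simp
    have e2 : s ^ 2 * (s ^ 2)⁻¹ = 1 := mul_inv_cancel₀ (pow_ne_zero _ hs0)
    rw [e1, e2] at h1
    simp only [qa, one_mul, mul_zero, one_pow, mul_one, add_zero, sub_zero, zero_sub, zero_add] at h1 ⊢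
    have h2 : (s - 1) * zf φ ⟨⟨0, 0, 0, u, 0, 0⟩, rfl⟩ = -(3 * x.c) * u := by
      linear_combination h1
    rw [mul_assoc, ← h2, inv_mul_cancel_left₀ hne]
  obtain ⟨mc, hc⟩ := lc
  obtain ⟨md, hd⟩ := ld
  have hz : ∀ g : Qa K, zf φ g = mb * (g : GU K).b + nb * (g : GU K).b ^ 2 + mc * (g : GU K).c +
      md * (g : GU K).d + (me * (g : GU K).e + ne * (g : GU K).e ^ 2) := by
    intro g
    rw [zf_eq hφT g, hb, hc, hd, he]
  -- `w²`
  have hwf : ∀ g : Qa K, ((w g : Qa K) : GU K).f = (g : GU K).f + zf φ g + (g : GU K).b * (g : GU K).e -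
      3 * (g : GU K).c * (g : GU K).d := by
    intro g
    obtain ⟨b1, b2, b3, b4⟩ := hφT g
    have h1 : w g = ω (φ g) := by rw [← MulAut.mul_apply, hωφ]
    rw [h1, hω.f, b1, b2, b3, b4]
    unfold zf
    ring
  have hneg : ∀ x : K, -x = x := fun x => by linear_combination (-x) * h2
  have hw2T : Trv (w * w) := by
    intro g
    obtain ⟨w1, w2, w3, w4⟩ := hw g
    obtain ⟨v1, v2, v3, v4⟩ := hw (w g)
    rw [MulAut.mul_apply]
    exact ⟨by rw [v1, w4, hneg], by rw [v2, w3, hneg], by rw [v3, w2, hneg], by rw [v4, w1, hneg]⟩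
  have hw2z : ∀ g : Qa K, zf (w * w) g = zf φ g + zf φ (w g) := by
    intro g
    obtain ⟨w1, w2, w3, w4⟩ := hw g
    unfold zf
    rw [MulAut.mul_apply]
    have e1 := hwf (w g)
    have e2 := hwf g
    unfold zf at e1 e2
    rw [e1, e2, w1, w2, w3, w4]
    ring
  obtain ⟨x, hx⟩ := zf_lin (trv_mem hK h3 hP (Γ.mul_mem hwΓ hwΓ) hw2T) hw2T
  have hq : ∀ u : K, (mb + me) * u + (nb + ne) * u ^ 2 = -x.e * u := by
    intro u
    have h1 := hx (qa u 0 0 0 0)
    obtain ⟨w1, w2, w3, w4⟩ := hw (qa u 0 0 0 0)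
    rw [hw2z, hz, hz, w1, w2, w3, w4] at h1
    simp only [qa, mul_zero, add_zero, sub_zero, zero_sub, neg_zero, zero_add, hneg] at h1
    linear_combination h1 + (x.e * u) * h2
  have hnn : nb + ne = 0 := by
    have q1 := hq 1
    have q2 := hq s
    have h4 : (nb + ne) * (s * (s - 1)) = 0 := by linear_combination q2 - s * q1
    rcases mul_eq_zero.1 h4 with h5 | h5
    · exact h5
    · rcases mul_eq_zero.1 h5 with h6 | h6
      · exact absurd h6 hs0
      · exact absurd (sub_eq_zero.1 h6) hs1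
  refine ⟨mb, mc, md, me, nb, fun g => ?_⟩
  rw [hz]
  linear_combination ((g : GU K).e ^ 2) * hnn - (nb * (g : GU K).e ^ 2) * h2

/-- **the correction by `IsCe4 k`** -/
theorem exists_k {Γ : Subgroup (MulAut (Qa K))} {D : Subgroup (MulAut (GU K))} (hP : Par 2 (Qa K) Γ D)
    (hD : Full D) {w : MulAut (Qa K)} (hwΓ : w ∈ Γ) (hw : H889.GT.ActW w) : ∃ k : K, ∀ (α : MulAut (GU K))
      (η ω : MulAut (Qa K)), IsCe4 k α → IsR α η → IsWa ω → η * ω * η⁻¹ ∈ Γ := by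
  have h2 := two hK
  have h3 := three hK
  have := hK.fin
  obtain ⟨ω, hω⟩ := exists_wa (K := K)
  obtain ⟨hφT, mb, mc, md, me, k, hz⟩ := exists_shape hK hP hD hwΓ hw hω
  refine ⟨k, fun α η ω' hα hη hω' => ?_⟩
  have hωω : ω' = ω := isWa_unique hω' hω
  subst hωω
  -- `θ = η ω η⁻¹`
  set θ : MulAut (Qa K) := η * ω' * η⁻¹ with hθ
  have hηθ : ∀ g : Qa K, θ (η g) = η (ω' g) := fun g => by
    rw [hθ, MulAut.mul_apply, MulAut.mul_apply, MulAut.inv_apply_self]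
  clear_value θ
  have θb : ∀ g : Qa K, ((θ g : Qa K) : GU K).b = (g : GU K).e := by
    intro g
    obtain ⟨g, rfl⟩ := η.surjective g
    rw [hηθ, hη, hη, hα.b, hα.e, hω'.b]
  have θc : ∀ g : Qa K, ((θ g : Qa K) : GU K).c = -(g : GU K).d := by
    intro g
    obtain ⟨g, rfl⟩ := η.surjective g
    rw [hηθ, hη, hη, hα.c, hα.d, hω'.c]
  have θd : ∀ g : Qa K, ((θ g : Qa K) : GU K).d = (g : GU K).c := by
    intro g
    obtain ⟨g, rfl⟩ := η.surjective g
    rw [hηθ, hη, hη, hα.c, hα.d, hω'.d]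
  have θe : ∀ g : Qa K, ((θ g : Qa K) : GU K).e = -(g : GU K).b := by
    intro g
    obtain ⟨g, rfl⟩ := η.surjective g
    rw [hηθ, hη, hη, hα.b, hα.e, hω'.e]
  have θf : ∀ g : Qa K, ((θ g : Qa K) : GU K).f = (g : GU K).f + (g : GU K).b * (g : GU K).e -
      3 * (g : GU K).c * (g : GU K).d + k * ((g : GU K).e ^ 2 - (g : GU K).b ^ 2) := by
    intro g
    obtain ⟨g, rfl⟩ := η.surjective g
    rw [hηθ, hη, hη, hα.f, hα.f, hα.b, hα.c, hα.d, hα.e, hω'.f, hω'.b]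
    ring
  -- `ψ = θ⁻¹ w`
  set ψ : MulAut (Qa K) := θ⁻¹ * w with hψ
  have hθψ : ∀ g, θ (ψ g) = w g := fun g => by
    rw [hψ, MulAut.mul_apply, MulAut.apply_inv_self]
  have hψT : Trv ψ := by
    intro g
    obtain ⟨w1, w2, w3, w4⟩ := hw g
    rw [← hθψ, θb] at w1
    rw [← hθψ, θc] at w2
    rw [← hθψ, θd] at w3
    rw [← hθψ, θe] at w4
    exact ⟨neg_injective w4, w3, neg_injective w2, w1⟩
  have hωφ : ω' * (ω'⁻¹ * w) = w := by rw [mul_inv_cancel_left]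
  have hψz : ∀ g : Qa K, zf ψ g = mb * (g : GU K).b + mc * (g : GU K).c + md * (g : GU K).d + me * (g : GU K).e := by
    intro g
    obtain ⟨a1, a2, a3, a4⟩ := hψT g
    obtain ⟨b1, b2, b3, b4⟩ := hφT g
    have h1 := congrArg (fun x : Qa K => (x : GU K).f) (hθψ g)
    simp only [θf, a1, a2, a3, a4] at h1
    have h4 : w g = ω' ((ω'⁻¹ * w) g) := by rw [← MulAut.mul_apply, hωφ]
    rw [h4, hω'.f, b1, b2, b3, b4] at h1
    have h5 := hz g
    unfold zf at h5 ⊢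
    linear_combination h1 + h5 + (k * (g : GU K).b ^ 2) * h2
  have h1 : ψ ∈ Γ := hP.indu (inner_of_lin h3 hψT hψz)
  have h4 : θ = w * ψ⁻¹ := by rw [hψ]; group
  rw [h4]
  exact Γ.mul_mem hwΓ (Γ.inv_mem h1)

/-- the elements of `D` are in the torus -/
theorem tor_of_mem {Γ : Subgroup (MulAut (Qa K))} {D : Subgroup (MulAut (GU K))} (hP : Par 2 (Qa K) Γ D)
    {d : MulAut (GU K)} (hd : d ∈ D) : ∃ s t : K, IsTor d s t (RingEquiv.refl K) := by
  have h2 := two hK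
  have h3 := three hK
  have := hK.fin
  rcases mem_TT (hP.D_le hd) with ⟨s, t, τ, h⟩ | ⟨s, t, τ, α', ρ, -, hρ, -⟩
  swap
  · exact absurd hρ.three h3
  -- `τ² = 1`
  obtain ⟨r, hr, hr0, hr1, hall⟩ := exists_s hK
  have hτr : τ r = r ∨ τ r = r + 1 := by
    rcases hall (τ r) with h4 | h4 | h4 | h4
    · exact absurd ((map_eq_zero_iff τ τ.injective).1 h4) hr0
    · exact absurd ((map_eq_one_iff τ τ.injective).1 h4) hr1
    · exact Or.inl h4
    · exact Or.inr h4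
  have hττ : τ.trans τ = RingEquiv.refl K := by
    have hrr : τ (τ r) = r := by
      rcases hτr with h4 | h4
      · rw [h4, h4]
      · rw [h4, map_add, map_one, h4]
        linear_combination h2
    ext u
    show τ (τ u) = u
    rcases hall u with rfl | rfl | rfl | rfl
    · rw [map_zero, map_zero]
    · rw [map_one, map_one]
    · exact hrr
    · rw [map_add, map_add, map_one, map_one, hrr]
  have hd2 : ∃ s t : K, IsTor (d * d) s t (RingEquiv.refl K) := by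
    have h4 := tor_mul h h
    rw [hττ] at h4
    exact ⟨_, _, h4⟩
  have hpow : ∀ k : ℕ, ∃ s t : K, IsTor ((d * d) ^ k) s t (RingEquiv.refl K) := by
    intro k
    induction k with
    | zero =>
      rw [pow_zero]
      exact ⟨1, 1, one_ne_zero, one_ne_zero, fun g => by simp, fun g => by simp, fun g => by simp, fun g => by simp,
        fun g => by simp, fun g => by simp⟩
    | succ k ih =>
      obtain ⟨s1, t1, h4⟩ := ih
      obtain ⟨s2, t2, h5⟩ := hd2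
      rw [pow_succ]
      exact ⟨_, _, (tor_mul h4 h5 : IsTor _ _ _ ((RingEquiv.refl K).trans (RingEquiv.refl K)))⟩
  -- odd order
  have hodd : ¬ 2 ∣ Nat.card D := by
    intro h4
    have h5 := Nat.dvd_gcd h4 (dvd_refl 2)
    rw [hP.D_cop] at h5
    omega
  obtain ⟨j, hj⟩ : ∃ j, Nat.card D = 2 * j + 1 := ⟨Nat.card D / 2, by omega⟩
  have hdn : d ^ Nat.card D = 1 := by
    have h4 : (⟨d, hd⟩ : D) ^ Nat.card D = 1 := pow_card_eq_one'
    exact congrArg Subtype.val h4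
  have h4 : d = (d * d) ^ (j + 1) := by
    rw [← pow_two, ← pow_mul, show 2 * (j + 1) = Nat.card D + 1 by omega, pow_succ, hdn, one_mul]
  rw [h4]
  exact hpow (j + 1)

/-- `IsCe4 k` commutes with the torus -/
theorem ce_comm {k : K} {α d : MulAut (GU K)} (hα : IsCe4 k α) {s t : K} (hd : IsTor d s t (RingEquiv.refl K)) :
    α * d = d * α := by
  have h4 : s ^ 3 = 1 := by
    have := hK.fin
    have := Fintype.ofFinite K
    have h5 := FiniteField.pow_card_sub_one_eq_one s hd.ne1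
    rw [← Nat.card_eq_fintype_card, hK.card] at h5
    exact h5
  refine ext_aut fun g => ⟨?_, ?_, ?_, ?_, ?_, ?_⟩ <;> simp only [MulAut.mul_apply, hα.a, hα.b, hα.c, hα.d, hα.e, hα.f,
    hd.a, hd.b, hd.c, hd.d, hd.e, hd.f, RingEquiv.refl_apply]
  linear_combination (-(t ^ 2 * k * g.b ^ 2)) * h4

/-- restriction of `IsCe4 k` to `Q_a` -/
theorem ce_res {k : K} {α : MulAut (GU K)} (hα : IsCe4 k α) : ∃ η : MulAut (Qa K), IsR α η := by
  have h1 : ∀ g : Qa K, α g ∈ Qa K := fun g => by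
    show (α g).a = 0
    rw [hα.a]
    exact g.2
  have h2 : ∀ g : Qa K, α.symm g ∈ Qa K := fun g => by
    show (α.symm g).a = 0
    rw [← hα.a, MulEquiv.apply_symm_apply]
    exact g.2
  exact ⟨{ toFun := fun g => ⟨α g, h1 g⟩
           invFun := fun g => ⟨α.symm g, h2 g⟩
           left_inv := fun g => Subtype.ext (α.symm_apply_apply _)
           right_inv := fun g => Subtype.ext (α.apply_symm_apply _)
           map_mul' := fun g g' => Subtype.ext (map_mul α _ _) }, fun _ => rfl⟩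

omit hK in
theorem res_inv {α : MulAut (GU K)} {η : MulAut (Qa K)} (h : IsR α η) : IsR α⁻¹ η⁻¹ := by
  intro e
  have h1 := h (η⁻¹ e)
  rw [MulAut.apply_inv_self] at h1
  rw [h1, MulAut.inv_apply_self]

omit hK in
/-- conjugation of `Aut_S(Q_a)` by the restriction of an automorphism of `S` -/
theorem conj_ind {α : MulAut (GU K)} {η : MulAut (Qa K)} (h : IsR α η) {γ : MulAut (Qa K)}
    (hγ : γ ∈ autInducedBy ⊤ (Qa K)) : η * γ * η⁻¹ ∈ autInducedBy ⊤ (Qa K) := by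
  obtain ⟨x, -, hx⟩ := (mem_autInducedBy_iff _ _ _).1 hγ
  refine (mem_autInducedBy_iff _ _ _).2 ⟨α x, trivial, fun g => ?_⟩
  rw [MulAut.mul_apply, MulAut.mul_apply, h, hx, res_inv h, map_mul, map_mul, MulAut.apply_inv_self, map_inv]

omit hK in
theorem conj_ind' {α : MulAut (GU K)} {η : MulAut (Qa K)} (h : IsR α η) {γ : MulAut (Qa K)}
    (hγ : γ ∈ autInducedBy ⊤ (Qa K)) : η⁻¹ * γ * η ∈ autInducedBy ⊤ (Qa K) := by
  have h1 := conj_ind (res_inv h) hγ
  rwa [inv_inv] at h1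

/-- the conjugate of `Γ` -/
theorem par_conj {Γ : Subgroup (MulAut (Qa K))} {D : Subgroup (MulAut (GU K))} (hP : Par 2 (Qa K) Γ D) {k : K}
    {α : MulAut (GU K)} (hα : IsCe4 k α) {η : MulAut (Qa K)} (hη : IsR α η) :
    Par 2 (Qa K) (Γ.comap (MulAut.conj η).toMonoidHom) D where
  indu := by
    intro γ hγ
    show η * γ * η⁻¹ ∈ Γ
    exact hP.indu (conj_ind hη hγ)
  syl := by
    intro P hPΓ hPp
    obtain ⟨g, hg, h⟩ := hP.syl (P.map (MulAut.conj η).toMonoidHom) (by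
      rintro _ ⟨x, hx, rfl⟩
      exact hPΓ hx) (hPp.map _)
    refine ⟨η⁻¹ * g * η, ?_, fun x hx => ?_⟩
    · show η * (η⁻¹ * g * η) * η⁻¹ ∈ Γ
      have e : η * (η⁻¹ * g * η) * η⁻¹ = g := by group
      rw [e]
      exact hg
    · have h1 := h (η * x * η⁻¹) ⟨x, hx, rfl⟩
      have e : η⁻¹ * g * η * x * (η⁻¹ * g * η)⁻¹ = η⁻¹ * (g * (η * x * η⁻¹) * g⁻¹) * η := by group
      rw [e]
      exact conj_ind' hη h1
  nn := by
    intro h
    refine hP.nn fun γ hγ => ?_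
    have h1 : η⁻¹ * γ * η ∈ Γ.comap (MulAut.conj η).toMonoidHom := by
      show η * (η⁻¹ * γ * η) * η⁻¹ ∈ Γ
      have e : η * (η⁻¹ * γ * η) * η⁻¹ = γ := by group
      rw [e]
      exact hγ
    intro x hx
    have h4 := h _ h1 (η⁻¹ * x * η) (conj_ind' hη hx)
    have h5 := conj_ind hη h4
    have e : η * (η⁻¹ * γ * η * (η⁻¹ * x * η) * (η⁻¹ * γ * η)⁻¹) * η⁻¹ = γ * x * γ⁻¹ := by group
    rwa [e] at h5
  D_le := hP.D_le
  D_cop := hP.D_cop
  D_res := by
    intro d hd γ hγ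
    show η * γ * η⁻¹ ∈ Γ
    obtain ⟨s, t, h⟩ := tor_of_mem hK hP hd
    refine hP.D_res d hd _ fun e => ?_
    have h1 := ce_comm hK hα h
    rw [MulAut.mul_apply, MulAut.mul_apply, hη, hγ, res_inv hη]
    have e1 : α (d (α⁻¹ e)) = (α * d) (α⁻¹ (e : GU K)) := rfl
    rw [e1, h1, MulAut.mul_apply, MulAut.apply_inv_self]
  norm := by
    intro γ hγ hn
    have hn' : NormAut ⊤ (η * γ * η⁻¹) := by
      intro x hx
      have h4 := hn (η⁻¹ * x * η) (conj_ind' hη hx)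
      have h5 := conj_ind hη h4
      have e : η * (γ * (η⁻¹ * x * η) * γ⁻¹) * η⁻¹ = η * γ * η⁻¹ * x * (η * γ * η⁻¹)⁻¹ := by group
      rwa [e] at h5
    obtain ⟨x, d, hd, hx⟩ := hP.norm _ hγ hn'
    refine ⟨α⁻¹ x, d, hd, fun e => ?_⟩
    obtain ⟨s, t, h⟩ := tor_of_mem hK hP hd
    have h1 := ce_comm hK hα h
    have h4 := hx (η e)
    rw [hη] at h4
    have e1 : ((MulAut.conj η).toMonoidHom γ) (η e) = η (γ e) := by
      show (η * γ * η⁻¹) (η e) = _
      rw [MulAut.mul_apply, MulAut.mul_apply, MulAut.inv_apply_self]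
    rw [e1, hη] at h4
    have e2 : d (α (e : GU K)) = α (d e) := by
      rw [← MulAut.mul_apply, ← h1, MulAut.mul_apply]
    rw [e2] at h4
    have h5 := congrArg (fun y => α⁻¹ y) h4
    simp only [map_mul, map_inv, MulAut.inv_apply_self] at h5
    exact h5

end four

/-- **`q = 4`, `Q_a`** -/
theorem stLa4_of (hH : H889.GT.StHalf.{u}) : StLa4.{u} := by
  intro K _ hK Γ D hP
  have := hK.fin
  obtain ⟨h1, ⟨w, hw, hwa⟩, -⟩ := hH hK le_rfl Γ D hP
  refine ⟨h1, fun hF => ?_⟩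
  obtain ⟨k, hk⟩ := exists_k hK hP hF hw hwa
  obtain ⟨-, hce⟩ := Cfsg.Agent.H294.G2.Ev.stAut4 hK
  obtain ⟨α, hα⟩ := hce k
  obtain ⟨η, hη⟩ := ce_res hK hα
  obtain ⟨ω, hω⟩ := exists_wa (K := K)
  have hP' := par_conj hK hP hα hη
  have hωΓ : ω ∈ Γ.comap (MulAut.conj η).toMonoidHom := hk α η ω hα hη hω
  have hG := H297.GT.gen_of hP' hωΓ hω fun γ hγ =>
    (hH hK le_rfl _ D hP').2.2 ω hωΓ (H297.GT.actW_of_isWa hω) γ hγ
  refine ⟨k, fun γ => ⟨fun hγ => ?_, ?_⟩⟩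
  · refine ⟨η⁻¹ * γ * η, ?_, fun α' hα' g g' hg => ?_⟩
    · rw [← hG]
      show η * (η⁻¹ * γ * η) * η⁻¹ ∈ Γ
      have e : η * (η⁻¹ * γ * η) * η⁻¹ = γ := by group
      rw [e]
      exact hγ
    · have hαα : α' = α := ext_aut fun g => ⟨by rw [hα'.a, hα.a], by rw [hα'.b, hα.b], by rw [hα'.c, hα.c],
        by rw [hα'.d, hα.d], by rw [hα'.e, hα.e], by rw [hα'.f, hα.f]⟩
      subst hαα
      have e1 : g' = η g := Subtype.ext (by rw [hg, hη])
      rw [e1, ← hη]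
      have e2 : η ((η⁻¹ * γ * η) g) = γ (η g) := by
        rw [MulAut.mul_apply, MulAut.mul_apply, MulAut.apply_inv_self]
      rw [e2]
  · rintro ⟨δ, hδ, h⟩
    rw [← hG] at hδ
    have hδ' : η * δ * η⁻¹ ∈ Γ := hδ
    have e : γ = η * δ * η⁻¹ := by
      apply MulEquiv.ext
      intro g'
      obtain ⟨g, rfl⟩ := η.surjective g'
      have h4 := h α hα g (η g) (hη g)
      rw [← hη] at h4
      rw [MulAut.mul_apply, MulAut.mul_apply, MulAut.inv_apply_self]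
      exact (Subtype.ext h4).symm
    rw [e]
    exact hδ'

/-- **`q = 4`, `Q_a`**, unconditional -/
theorem stLa4 : StLa4.{u} := stLa4_of (H297.GT.stHalf' Cfsg.Agent.H771.GT.stSem)

end Cfsg.Agent.H294.G2.Four
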